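import Cfsg.Agent.Helper28.Fi23a.All
import Cfsg.Prelude.Def_Spor_Fi23
set_option autoImplicit false
set_option maxRecDepth 1000000
namespace Cfsg.Agent.Helper28.Fi23a
open Cfsg.Agent.Helper28 Cfsg.Spor

/-- generator with a given index -/
def gen : Nat → Fi23.Gen
  | 0 => .a | 1 => .b | 2 => .c | 3 => .d | 4 => .e | 5 => .f | 6 => .g | 7 => .j | 8 => .h | _ => .i

/-- index of a generator -/
def idx : Fi23.Gen → Nat
  | .a => 0 | .b => 1 | .c => 2 | .d => 3 | .e => 4 | .f => 5 | .g => 6 | .j => 7 | .h => 8 | .i => 9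

/-- the subgroup generators -/
def Ylist : List (FreeGroup Fi23.Gen) := [Fi23.a, Fi23.b, Fi23.c, Fi23.d, Fi23.e, Fi23.f, Fi23.g, Fi23.h, Fi23.i]

theorem hY_ok : ∀ s, s < tabs.nsub → ev gen 10 (tabs.word s) = Ylist.getD s 1 := by
  decide +kernel

theorem hcoxw_ok : ∀ ix, ix < 10 → ∀ iy, iy < 10 →
    tabs.word (tabs.nsub + ix * 10 + iy) = coxW ix iy (lab Fi23.edges gen ix iy) := by
  decide +kernel

theorem hextra_ok : ∀ j, j < Fi23.extra.length →
    ev gen 10 (tabs.word (tabs.nsub + 10 * 10 + j)) = Fi23.extra.getD j 1 := by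
  decide +kernel

theorem htriv_ok : ∀ l, l < 2 * 10 →
    tabs.word (tabs.nsub + 10 * 10 + Fi23.extra.length + l) = [l, flipL l] := by
  decide +kernel

theorem hletters_ok : ∀ r, r < tabs.nwords → ∀ l ∈ tabs.word r, l < ptabs.L := by
  decide +kernel

theorem layout : Layout Fi23.edges Fi23.extra Ylist gen idx 10 tabs ptabs where
  hngen := by decide
  hgi := by intro a; cases a <;> exact ⟨by decide, rfl⟩
  hig := by decide
  hnsub := by decide +kernel
  hY := hY_ok
  hcoxw := hcoxw_ok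
  hextra := hextra_ok
  htriv := htriv_ok
  hempty := by decide +kernel
  hnwords := by decide +kernel
  hL := by decide +kernel
  hletters := hletters_ok

/-- the relators -/
abbrev R : Set (FreeGroup Fi23.Gen) := coxRels Fi23.edges Fi23.extra
/-- the subgroup generators as a set -/
abbrev Y : Set (FreeGroup Fi23.Gen) := {y | y ∈ Ylist}

theorem facts_to (k kend : Nat) (vs : List Nat) (hc : checkChunks tabs vs k kend = true)
    (hk : ∀ f, f < k → VF (HH R Y) (gG R gen 10) tabs f) :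
    ∀ f, f < kend → VF (HH R Y) (gG R gen 10) tabs f :=
  facts_part R Y gen 10 tabs layout.hngen defs_ok layout.hYw layout.hrelw vs k kend hc hk

theorem facts_0 : ∀ f, f < 0 → VF (HH R Y) (gG R gen 10) tabs f :=
  fun f hf => absurd hf (Nat.not_lt_zero f)
theorem facts_upto0 : ∀ f, f < 4992 → VF (HH R Y) (gG R gen 10) tabs f :=
  facts_to _ _ _ facts_ok0 facts_0
theorem facts_upto1 : ∀ f, f < 9984 → VF (HH R Y) (gG R gen 10) tabs f :=
  facts_to _ _ _ facts_ok1 facts_upto0
theorem facts_upto2 : ∀ f, f < 14976 → VF (HH R Y) (gG R gen 10) tabs f :=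
  facts_to _ _ _ facts_ok2 facts_upto1
theorem facts_upto3 : ∀ f, f < 19968 → VF (HH R Y) (gG R gen 10) tabs f :=
  facts_to _ _ _ facts_ok3 facts_upto2
theorem facts_upto4 : ∀ f, f < 24960 → VF (HH R Y) (gG R gen 10) tabs f :=
  facts_to _ _ _ facts_ok4 facts_upto3
theorem facts_upto5 : ∀ f, f < 29952 → VF (HH R Y) (gG R gen 10) tabs f :=
  facts_to _ _ _ facts_ok5 facts_upto4
theorem facts_upto6 : ∀ f, f < 34944 → VF (HH R Y) (gG R gen 10) tabs f :=
  facts_to _ _ _ facts_ok6 facts_upto5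
theorem facts_upto7 : ∀ f, f < 39936 → VF (HH R Y) (gG R gen 10) tabs f :=
  facts_to _ _ _ facts_ok7 facts_upto6
theorem facts_upto8 : ∀ f, f < 44928 → VF (HH R Y) (gG R gen 10) tabs f :=
  facts_to _ _ _ facts_ok8 facts_upto7
theorem facts_upto9 : ∀ f, f < 49920 → VF (HH R Y) (gG R gen 10) tabs f :=
  facts_to _ _ _ facts_ok9 facts_upto8
theorem facts_upto10 : ∀ f, f < 54912 → VF (HH R Y) (gG R gen 10) tabs f :=
  facts_to _ _ _ facts_ok10 facts_upto9
theorem facts_upto11 : ∀ f, f < 59904 → VF (HH R Y) (gG R gen 10) tabs f :=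
  facts_to _ _ _ facts_ok11 facts_upto10
theorem facts_upto12 : ∀ f, f < 64896 → VF (HH R Y) (gG R gen 10) tabs f :=
  facts_to _ _ _ facts_ok12 facts_upto11
theorem facts_upto13 : ∀ f, f < 69888 → VF (HH R Y) (gG R gen 10) tabs f :=
  facts_to _ _ _ facts_ok13 facts_upto12
theorem facts_upto14 : ∀ f, f < 74880 → VF (HH R Y) (gG R gen 10) tabs f :=
  facts_to _ _ _ facts_ok14 facts_upto13
theorem facts_upto15 : ∀ f, f < 79872 → VF (HH R Y) (gG R gen 10) tabs f :=
  facts_to _ _ _ facts_ok15 facts_upto14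
theorem facts_upto16 : ∀ f, f < 84864 → VF (HH R Y) (gG R gen 10) tabs f :=
  facts_to _ _ _ facts_ok16 facts_upto15
theorem facts_upto17 : ∀ f, f < 89856 → VF (HH R Y) (gG R gen 10) tabs f :=
  facts_to _ _ _ facts_ok17 facts_upto16
theorem facts_upto18 : ∀ f, f < 94848 → VF (HH R Y) (gG R gen 10) tabs f :=
  facts_to _ _ _ facts_ok18 facts_upto17
theorem facts_upto19 : ∀ f, f < 99840 → VF (HH R Y) (gG R gen 10) tabs f :=
  facts_to _ _ _ facts_ok19 facts_upto18
theorem facts_upto20 : ∀ f, f < 104832 → VF (HH R Y) (gG R gen 10) tabs f :=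
  facts_to _ _ _ facts_ok20 facts_upto19
theorem facts_upto21 : ∀ f, f < 109824 → VF (HH R Y) (gG R gen 10) tabs f :=
  facts_to _ _ _ facts_ok21 facts_upto20
theorem facts_upto22 : ∀ f, f < 114816 → VF (HH R Y) (gG R gen 10) tabs f :=
  facts_to _ _ _ facts_ok22 facts_upto21
theorem facts_upto23 : ∀ f, f < 119808 → VF (HH R Y) (gG R gen 10) tabs f :=
  facts_to _ _ _ facts_ok23 facts_upto22
theorem facts_upto24 : ∀ f, f < 124800 → VF (HH R Y) (gG R gen 10) tabs f :=
  facts_to _ _ _ facts_ok24 facts_upto23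
theorem facts_upto25 : ∀ f, f < 129792 → VF (HH R Y) (gG R gen 10) tabs f :=
  facts_to _ _ _ facts_ok25 facts_upto24
theorem facts_upto26 : ∀ f, f < 134784 → VF (HH R Y) (gG R gen 10) tabs f :=
  facts_to _ _ _ facts_ok26 facts_upto25
theorem facts_upto27 : ∀ f, f < 139776 → VF (HH R Y) (gG R gen 10) tabs f :=
  facts_to _ _ _ facts_ok27 facts_upto26
theorem facts_upto28 : ∀ f, f < 144768 → VF (HH R Y) (gG R gen 10) tabs f :=
  facts_to _ _ _ facts_ok28 facts_upto27
theorem facts_upto29 : ∀ f, f < 149760 → VF (HH R Y) (gG R gen 10) tabs f :=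
  facts_to _ _ _ facts_ok29 facts_upto28
theorem facts_upto30 : ∀ f, f < 154752 → VF (HH R Y) (gG R gen 10) tabs f :=
  facts_to _ _ _ facts_ok30 facts_upto29
theorem facts_upto31 : ∀ f, f < 159744 → VF (HH R Y) (gG R gen 10) tabs f :=
  facts_to _ _ _ facts_ok31 facts_upto30
theorem facts_upto32 : ∀ f, f < 164736 → VF (HH R Y) (gG R gen 10) tabs f :=
  facts_to _ _ _ facts_ok32 facts_upto31
theorem facts_upto33 : ∀ f, f < 169728 → VF (HH R Y) (gG R gen 10) tabs f :=
  facts_to _ _ _ facts_ok33 facts_upto32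
theorem facts_upto34 : ∀ f, f < 174720 → VF (HH R Y) (gG R gen 10) tabs f :=
  facts_to _ _ _ facts_ok34 facts_upto33
theorem facts_upto35 : ∀ f, f < 179712 → VF (HH R Y) (gG R gen 10) tabs f :=
  facts_to _ _ _ facts_ok35 facts_upto34
theorem facts_upto36 : ∀ f, f < 184704 → VF (HH R Y) (gG R gen 10) tabs f :=
  facts_to _ _ _ facts_ok36 facts_upto35
theorem facts_upto37 : ∀ f, f < 189696 → VF (HH R Y) (gG R gen 10) tabs f :=
  facts_to _ _ _ facts_ok37 facts_upto36
theorem facts_upto38 : ∀ f, f < 194688 → VF (HH R Y) (gG R gen 10) tabs f :=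
  facts_to _ _ _ facts_ok38 facts_upto37
theorem facts_upto39 : ∀ f, f < 199680 → VF (HH R Y) (gG R gen 10) tabs f :=
  facts_to _ _ _ facts_ok39 facts_upto38
theorem facts_upto40 : ∀ f, f < 204672 → VF (HH R Y) (gG R gen 10) tabs f :=
  facts_to _ _ _ facts_ok40 facts_upto39
theorem facts_upto41 : ∀ f, f < 209664 → VF (HH R Y) (gG R gen 10) tabs f :=
  facts_to _ _ _ facts_ok41 facts_upto40
theorem facts_upto42 : ∀ f, f < 214656 → VF (HH R Y) (gG R gen 10) tabs f :=
  facts_to _ _ _ facts_ok42 facts_upto41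
theorem facts_upto43 : ∀ f, f < 219648 → VF (HH R Y) (gG R gen 10) tabs f :=
  facts_to _ _ _ facts_ok43 facts_upto42
theorem facts_upto44 : ∀ f, f < 224640 → VF (HH R Y) (gG R gen 10) tabs f :=
  facts_to _ _ _ facts_ok44 facts_upto43
theorem facts_upto45 : ∀ f, f < 229632 → VF (HH R Y) (gG R gen 10) tabs f :=
  facts_to _ _ _ facts_ok45 facts_upto44
theorem facts_upto46 : ∀ f, f < 234624 → VF (HH R Y) (gG R gen 10) tabs f :=
  facts_to _ _ _ facts_ok46 facts_upto45
theorem facts_upto47 : ∀ f, f < 239616 → VF (HH R Y) (gG R gen 10) tabs f :=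
  facts_to _ _ _ facts_ok47 facts_upto46
theorem facts_upto48 : ∀ f, f < 244608 → VF (HH R Y) (gG R gen 10) tabs f :=
  facts_to _ _ _ facts_ok48 facts_upto47
theorem facts_upto49 : ∀ f, f < 249600 → VF (HH R Y) (gG R gen 10) tabs f :=
  facts_to _ _ _ facts_ok49 facts_upto48
theorem facts_upto50 : ∀ f, f < 254592 → VF (HH R Y) (gG R gen 10) tabs f :=
  facts_to _ _ _ facts_ok50 facts_upto49
theorem facts_upto51 : ∀ f, f < 259584 → VF (HH R Y) (gG R gen 10) tabs f :=
  facts_to _ _ _ facts_ok51 facts_upto50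
theorem facts_upto52 : ∀ f, f < 264576 → VF (HH R Y) (gG R gen 10) tabs f :=
  facts_to _ _ _ facts_ok52 facts_upto51
theorem facts_upto53 : ∀ f, f < 269568 → VF (HH R Y) (gG R gen 10) tabs f :=
  facts_to _ _ _ facts_ok53 facts_upto52
theorem facts_upto54 : ∀ f, f < 274560 → VF (HH R Y) (gG R gen 10) tabs f :=
  facts_to _ _ _ facts_ok54 facts_upto53
theorem facts_upto55 : ∀ f, f < 279552 → VF (HH R Y) (gG R gen 10) tabs f :=
  facts_to _ _ _ facts_ok55 facts_upto54
theorem facts_upto56 : ∀ f, f < 284544 → VF (HH R Y) (gG R gen 10) tabs f :=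
  facts_to _ _ _ facts_ok56 facts_upto55
theorem facts_upto57 : ∀ f, f < 289536 → VF (HH R Y) (gG R gen 10) tabs f :=
  facts_to _ _ _ facts_ok57 facts_upto56
theorem facts_upto58 : ∀ f, f < 294528 → VF (HH R Y) (gG R gen 10) tabs f :=
  facts_to _ _ _ facts_ok58 facts_upto57
theorem facts_upto59 : ∀ f, f < 299520 → VF (HH R Y) (gG R gen 10) tabs f :=
  facts_to _ _ _ facts_ok59 facts_upto58
theorem facts_upto60 : ∀ f, f < 304512 → VF (HH R Y) (gG R gen 10) tabs f :=
  facts_to _ _ _ facts_ok60 facts_upto59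
theorem facts_upto61 : ∀ f, f < 309504 → VF (HH R Y) (gG R gen 10) tabs f :=
  facts_to _ _ _ facts_ok61 facts_upto60
theorem facts_upto62 : ∀ f, f < 314496 → VF (HH R Y) (gG R gen 10) tabs f :=
  facts_to _ _ _ facts_ok62 facts_upto61
theorem facts_upto63 : ∀ f, f < 319488 → VF (HH R Y) (gG R gen 10) tabs f :=
  facts_to _ _ _ facts_ok63 facts_upto62
theorem facts_upto64 : ∀ f, f < 324480 → VF (HH R Y) (gG R gen 10) tabs f :=
  facts_to _ _ _ facts_ok64 facts_upto63
theorem facts_upto65 : ∀ f, f < 329472 → VF (HH R Y) (gG R gen 10) tabs f :=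
  facts_to _ _ _ facts_ok65 facts_upto64
theorem facts_upto66 : ∀ f, f < 334000 → VF (HH R Y) (gG R gen 10) tabs f :=
  facts_to _ _ _ facts_ok66 facts_upto65

theorem hperm_all : ∀ r, tabs.nsub ≤ r → r < tabs.nsub + 10 * 10 + Fi23.extra.length →
    relOk ptabs (tabs.word r) 0 ptabs.n = true := by
  intro r h1 h2
  exact perm_all r h1 h2

theorem hn : 0 < ptabs.n := by decide +kernel

theorem main_index : (HH R Y).index = 31671 :=
  (cox_cert inv_ok layout hn defs_ok 334000 facts_upto66 fin_ok par_ok hperm_all subfix_all).1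

theorem main_orbits : (HH R Y).index = 31671 ∧
    ∃ qOf : Nat → PresentedGroup R ⧸ HH R Y,
      (∀ i, i < 31671 → (MulAction.orbit (HH R Y) (qOf i)).ncard =
        countEq (fun j => oRoot (orb j)) (oRoot (orb i)) 31671) ∧
      (∀ i j, i < 31671 → j < 31671 → MulAction.orbit (HH R Y) (qOf i) = MulAction.orbit (HH R Y) (qOf j) →
          oRoot (orb i) = oRoot (orb j)) :=
  cox_orbits inv_ok layout hn defs_ok 334000 facts_upto66 fin_ok par_ok hperm_all subfix_all orb orb_ok

end Cfsg.Agent.Helper28.Fi23a
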