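import Cfsg.Agent.Helper28.Fi23a.Data
set_option autoImplicit false
set_option maxRecDepth 1000000
namespace Cfsg.Agent.Helper28.Fi23a
open Cfsg.Agent.Helper28
theorem fin_piece24 : allLtFrom (finRow tabs ptabs 334000) 12000 500 = true := by decide +kernel
theorem fin_piece25 : allLtFrom (finRow tabs ptabs 334000) 12500 500 = true := by decide +kernel
theorem fin_piece26 : allLtFrom (finRow tabs ptabs 334000) 13000 500 = true := by decide +kernel
theorem fin_piece27 : allLtFrom (finRow tabs ptabs 334000) 13500 500 = true := by decide +kernel
theorem fin_piece28 : allLtFrom (finRow tabs ptabs 334000) 14000 500 = true := by decide +kernel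
theorem fin_piece29 : allLtFrom (finRow tabs ptabs 334000) 14500 500 = true := by decide +kernel
theorem fin_piece30 : allLtFrom (finRow tabs ptabs 334000) 15000 500 = true := by decide +kernel
theorem fin_piece31 : allLtFrom (finRow tabs ptabs 334000) 15500 500 = true := by decide +kernel
end Cfsg.Agent.Helper28.Fi23a
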