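import Cfsg.Agent.Helper28.Fi23a.Data
set_option autoImplicit false
set_option maxRecDepth 1000000
namespace Cfsg.Agent.Helper28.Fi23a
open Cfsg.Agent.Helper28
theorem fin_piece40 : allLtFrom (finRow tabs ptabs 334000) 20000 500 = true := by decide +kernel
theorem fin_piece41 : allLtFrom (finRow tabs ptabs 334000) 20500 500 = true := by decide +kernel
theorem fin_piece42 : allLtFrom (finRow tabs ptabs 334000) 21000 500 = true := by decide +kernel
theorem fin_piece43 : allLtFrom (finRow tabs ptabs 334000) 21500 500 = true := by decide +kernel
theorem fin_piece44 : allLtFrom (finRow tabs ptabs 334000) 22000 500 = true := by decide +kernel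
theorem fin_piece45 : allLtFrom (finRow tabs ptabs 334000) 22500 500 = true := by decide +kernel
theorem fin_piece46 : allLtFrom (finRow tabs ptabs 334000) 23000 500 = true := by decide +kernel
theorem fin_piece47 : allLtFrom (finRow tabs ptabs 334000) 23500 500 = true := by decide +kernel
end Cfsg.Agent.Helper28.Fi23a
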