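import Cfsg.Agent.Helper28.Fi23a.Data
set_option autoImplicit false
set_option maxRecDepth 1000000
namespace Cfsg.Agent.Helper28.Fi23a
open Cfsg.Agent.Helper28
theorem fin_piece48 : allLtFrom (finRow tabs ptabs 334000) 24000 500 = true := by decide +kernel
theorem fin_piece49 : allLtFrom (finRow tabs ptabs 334000) 24500 500 = true := by decide +kernel
theorem fin_piece50 : allLtFrom (finRow tabs ptabs 334000) 25000 500 = true := by decide +kernel
theorem fin_piece51 : allLtFrom (finRow tabs ptabs 334000) 25500 500 = true := by decide +kernel
theorem fin_piece52 : allLtFrom (finRow tabs ptabs 334000) 26000 500 = true := by decide +kernel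
theorem fin_piece53 : allLtFrom (finRow tabs ptabs 334000) 26500 500 = true := by decide +kernel
theorem fin_piece54 : allLtFrom (finRow tabs ptabs 334000) 27000 500 = true := by decide +kernel
theorem fin_piece55 : allLtFrom (finRow tabs ptabs 334000) 27500 500 = true := by decide +kernel
end Cfsg.Agent.Helper28.Fi23a
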