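import Cfsg.Agent.Helper28.Fi23a.Data
set_option autoImplicit false
set_option maxRecDepth 1000000
namespace Cfsg.Agent.Helper28.Fi23a
open Cfsg.Agent.Helper28
theorem orb_piece0 : allLtFrom (orbOk tabs ptabs orb) 0 3076 = true := by decide +kernel
theorem orb_piece1 : allLtFrom (orbOk tabs ptabs orb) 3076 3076 = true := by decide +kernel
theorem orb_piece2 : allLtFrom (orbOk tabs ptabs orb) 6152 3076 = true := by decide +kernel
theorem orb_piece3 : allLtFrom (orbOk tabs ptabs orb) 9228 3076 = true := by decide +kernel
theorem orb_piece4 : allLtFrom (orbOk tabs ptabs orb) 12304 3076 = true := by decide +kernel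
theorem orb_piece5 : allLtFrom (orbOk tabs ptabs orb) 15380 3076 = true := by decide +kernel
theorem orb_piece6 : allLtFrom (orbOk tabs ptabs orb) 18456 3076 = true := by decide +kernel
theorem orb_piece7 : allLtFrom (orbOk tabs ptabs orb) 21532 3076 = true := by decide +kernel
end Cfsg.Agent.Helper28.Fi23a
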