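import Cfsg.Agent.Helper28.Fi23a.Data
set_option autoImplicit false
set_option maxRecDepth 1000000
namespace Cfsg.Agent.Helper28.Fi23a
open Cfsg.Agent.Helper28
theorem orb_piece8 : allLtFrom (orbOk tabs ptabs orb) 24608 3076 = true := by decide +kernel
theorem orb_piece9 : allLtFrom (orbOk tabs ptabs orb) 27684 3076 = true := by decide +kernel
theorem orb_piece10 : allLtFrom (orbOk tabs ptabs orb) 30760 911 = true := by decide +kernel
theorem orb_cnt_0 : countEq (fun j => oRoot (orb j)) (oRoot (orb 0)) 31671 = 1 := by decide +kernel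
theorem orb_cnt_1 : countEq (fun j => oRoot (orb j)) (oRoot (orb 1)) 31671 = 28160 := by decide +kernel
theorem orb_cnt_52 : countEq (fun j => oRoot (orb j)) (oRoot (orb 52)) 31671 = 3510 := by decide +kernel
end Cfsg.Agent.Helper28.Fi23a
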