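import Cfsg.Agent.Helper28.Fi23a.Data
set_option autoImplicit false
set_option maxRecDepth 1000000
namespace Cfsg.Agent.Helper28.Fi23a
open Cfsg.Agent.Helper28
theorem perm_piece_6_0 : permPieceF tabs.word letSel 15 1 0 22222 = true := by decide +kernel
theorem perm_piece_6_1 : permPieceF tabs.word letSel 15 1 22222 9449 = true := by decide +kernel
theorem perm_piece_7_0 : permPieceF tabs.word letSel 16 1 0 22222 = true := by decide +kernel
theorem perm_piece_7_1 : permPieceF tabs.word letSel 16 1 22222 9449 = true := by decide +kernel
theorem perm_piece_8_0 : permPieceF tabs.word letSel 17 1 0 22222 = true := by decide +kernel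
theorem perm_piece_8_1 : permPieceF tabs.word letSel 17 1 22222 9449 = true := by decide +kernel
theorem perm_piece_9_0 : permPieceF tabs.word letSel 18 1 0 22222 = true := by decide +kernel
theorem perm_piece_9_1 : permPieceF tabs.word letSel 18 1 22222 9449 = true := by decide +kernel
theorem perm_piece_10_0 : permPieceF tabs.word letSel 19 1 0 14814 = true := by decide +kernel
theorem perm_piece_10_1 : permPieceF tabs.word letSel 19 1 14814 14814 = true := by decide +kernel
theorem perm_piece_10_2 : permPieceF tabs.word letSel 19 1 29628 2043 = true := by decide +kernel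
theorem perm_piece_11_0 : permPieceF tabs.word letSel 20 1 0 31671 = true := by decide +kernel
end Cfsg.Agent.Helper28.Fi23a
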