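import Cfsg.Agent.Helper28.Fi23a.Data
set_option autoImplicit false
set_option maxRecDepth 1000000
namespace Cfsg.Agent.Helper28.Fi23a
open Cfsg.Agent.Helper28
theorem perm_piece_61_0 : permPieceF tabs.word letSel 70 1 0 22222 = true := by decide +kernel
theorem perm_piece_61_1 : permPieceF tabs.word letSel 70 1 22222 9449 = true := by decide +kernel
theorem perm_piece_62_0 : permPieceF tabs.word letSel 71 1 0 22222 = true := by decide +kernel
theorem perm_piece_62_1 : permPieceF tabs.word letSel 71 1 22222 9449 = true := by decide +kernel
theorem perm_piece_63_0 : permPieceF tabs.word letSel 72 1 0 22222 = true := by decide +kernel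
theorem perm_piece_63_1 : permPieceF tabs.word letSel 72 1 22222 9449 = true := by decide +kernel
theorem perm_piece_64_0 : permPieceF tabs.word letSel 73 1 0 22222 = true := by decide +kernel
theorem perm_piece_64_1 : permPieceF tabs.word letSel 73 1 22222 9449 = true := by decide +kernel
theorem perm_piece_65_0 : permPieceF tabs.word letSel 74 1 0 14814 = true := by decide +kernel
theorem perm_piece_65_1 : permPieceF tabs.word letSel 74 1 14814 14814 = true := by decide +kernel
theorem perm_piece_65_2 : permPieceF tabs.word letSel 74 1 29628 2043 = true := by decide +kernel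
theorem perm_piece_66_0 : permPieceF tabs.word letSel 75 1 0 31671 = true := by decide +kernel
end Cfsg.Agent.Helper28.Fi23a
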