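import Cfsg.Agent.Helper28.Fi23a.Data
set_option autoImplicit false
set_option maxRecDepth 1000000
namespace Cfsg.Agent.Helper28.Fi23a
open Cfsg.Agent.Helper28
theorem perm_piece_78_0 : permPieceF tabs.word letSel 87 1 0 22222 = true := by decide +kernel
theorem perm_piece_78_1 : permPieceF tabs.word letSel 87 1 22222 9449 = true := by decide +kernel
theorem perm_piece_79_0 : permPieceF tabs.word letSel 88 1 0 22222 = true := by decide +kernel
theorem perm_piece_79_1 : permPieceF tabs.word letSel 88 1 22222 9449 = true := by decide +kernel
theorem perm_piece_80_0 : permPieceF tabs.word letSel 89 1 0 22222 = true := by decide +kernel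
theorem perm_piece_80_1 : permPieceF tabs.word letSel 89 1 22222 9449 = true := by decide +kernel
theorem perm_piece_81_0 : permPieceF tabs.word letSel 90 1 0 22222 = true := by decide +kernel
theorem perm_piece_81_1 : permPieceF tabs.word letSel 90 1 22222 9449 = true := by decide +kernel
theorem perm_piece_82_0 : permPieceF tabs.word letSel 91 1 0 22222 = true := by decide +kernel
theorem perm_piece_82_1 : permPieceF tabs.word letSel 91 1 22222 9449 = true := by decide +kernel
theorem perm_piece_83_0 : permPieceF tabs.word letSel 92 1 0 14814 = true := by decide +kernel
end Cfsg.Agent.Helper28.Fi23a
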