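import Cfsg.Agent.Helper28.Fi23a.Data
set_option autoImplicit false
set_option maxRecDepth 1000000
namespace Cfsg.Agent.Helper28.Fi23a
open Cfsg.Agent.Helper28
theorem perm_piece_83_1 : permPieceF tabs.word letSel 92 1 14814 14814 = true := by decide +kernel
theorem perm_piece_83_2 : permPieceF tabs.word letSel 92 1 29628 2043 = true := by decide +kernel
theorem perm_piece_84_0 : permPieceF tabs.word letSel 93 1 0 22222 = true := by decide +kernel
theorem perm_piece_84_1 : permPieceF tabs.word letSel 93 1 22222 9449 = true := by decide +kernel
theorem perm_piece_85_0 : permPieceF tabs.word letSel 94 1 0 22222 = true := by decide +kernel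
theorem perm_piece_85_1 : permPieceF tabs.word letSel 94 1 22222 9449 = true := by decide +kernel
theorem perm_piece_86_0 : permPieceF tabs.word letSel 95 1 0 22222 = true := by decide +kernel
theorem perm_piece_86_1 : permPieceF tabs.word letSel 95 1 22222 9449 = true := by decide +kernel
theorem perm_piece_87_0 : permPieceF tabs.word letSel 96 1 0 22222 = true := by decide +kernel
theorem perm_piece_87_1 : permPieceF tabs.word letSel 96 1 22222 9449 = true := by decide +kernel
theorem perm_piece_88_0 : permPieceF tabs.word letSel 97 1 0 31671 = true := by decide +kernel
theorem perm_piece_89_0 : permPieceF tabs.word letSel 98 1 0 14814 = true := by decide +kernel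
end Cfsg.Agent.Helper28.Fi23a
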