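import Cfsg.Agent.Helper28.Fi23a.Data
set_option autoImplicit false
set_option maxRecDepth 1000000
namespace Cfsg.Agent.Helper28.Fi23a
open Cfsg.Agent.Helper28
theorem perm_piece_89_1 : permPieceF tabs.word letSel 98 1 14814 14814 = true := by decide +kernel
theorem perm_piece_89_2 : permPieceF tabs.word letSel 98 1 29628 2043 = true := by decide +kernel
theorem perm_piece_90_0 : permPieceF tabs.word letSel 99 1 0 22222 = true := by decide +kernel
theorem perm_piece_90_1 : permPieceF tabs.word letSel 99 1 22222 9449 = true := by decide +kernel
theorem perm_piece_91_0 : permPieceF tabs.word letSel 100 1 0 22222 = true := by decide +kernel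
theorem perm_piece_91_1 : permPieceF tabs.word letSel 100 1 22222 9449 = true := by decide +kernel
theorem perm_piece_92_0 : permPieceF tabs.word letSel 101 1 0 22222 = true := by decide +kernel
theorem perm_piece_92_1 : permPieceF tabs.word letSel 101 1 22222 9449 = true := by decide +kernel
theorem perm_piece_93_0 : permPieceF tabs.word letSel 102 1 0 22222 = true := by decide +kernel
theorem perm_piece_93_1 : permPieceF tabs.word letSel 102 1 22222 9449 = true := by decide +kernel
theorem perm_piece_94_0 : permPieceF tabs.word letSel 103 1 0 22222 = true := by decide +kernel
theorem perm_piece_94_1 : permPieceF tabs.word letSel 103 1 22222 9449 = true := by decide +kernel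
end Cfsg.Agent.Helper28.Fi23a
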