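import Cfsg.Agent.Helper28.Fi23a.Data
set_option autoImplicit false
set_option maxRecDepth 1000000
namespace Cfsg.Agent.Helper28.Fi23a
open Cfsg.Agent.Helper28
theorem perm_piece_95_0 : permPieceF tabs.word letSel 104 1 0 22222 = true := by decide +kernel
theorem perm_piece_95_1 : permPieceF tabs.word letSel 104 1 22222 9449 = true := by decide +kernel
theorem perm_piece_96_0 : permPieceF tabs.word letSel 105 1 0 22222 = true := by decide +kernel
theorem perm_piece_96_1 : permPieceF tabs.word letSel 105 1 22222 9449 = true := by decide +kernel
theorem perm_piece_97_0 : permPieceF tabs.word letSel 106 1 0 22222 = true := by decide +kernel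
theorem perm_piece_97_1 : permPieceF tabs.word letSel 106 1 22222 9449 = true := by decide +kernel
theorem perm_piece_98_0 : permPieceF tabs.word letSel 107 1 0 14814 = true := by decide +kernel
theorem perm_piece_98_1 : permPieceF tabs.word letSel 107 1 14814 14814 = true := by decide +kernel
theorem perm_piece_98_2 : permPieceF tabs.word letSel 107 1 29628 2043 = true := by decide +kernel
theorem perm_piece_99_0 : permPieceF tabs.word letSel 108 1 0 31671 = true := by decide +kernel
theorem perm_piece_100_0 : permPieceF tabs.word letSel 109 1 0 987 = true := by decide +kernel
end Cfsg.Agent.Helper28.Fi23a
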