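import Cfsg.Agent.Helper28.Fi23a.Data
set_option autoImplicit false
set_option maxRecDepth 1000000
namespace Cfsg.Agent.Helper28.Fi23a
open Cfsg.Agent.Helper28
theorem perm_piece_100_1 : permPieceF tabs.word letSel 109 1 987 987 = true := by decide +kernel
theorem perm_piece_100_2 : permPieceF tabs.word letSel 109 1 1974 987 = true := by decide +kernel
theorem perm_piece_100_3 : permPieceF tabs.word letSel 109 1 2961 987 = true := by decide +kernel
theorem perm_piece_100_4 : permPieceF tabs.word letSel 109 1 3948 987 = true := by decide +kernel
theorem perm_piece_100_5 : permPieceF tabs.word letSel 109 1 4935 987 = true := by decide +kernel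
theorem perm_piece_100_6 : permPieceF tabs.word letSel 109 1 5922 987 = true := by decide +kernel
theorem perm_piece_100_7 : permPieceF tabs.word letSel 109 1 6909 987 = true := by decide +kernel
theorem perm_piece_100_8 : permPieceF tabs.word letSel 109 1 7896 987 = true := by decide +kernel
end Cfsg.Agent.Helper28.Fi23a
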