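import Cfsg.Agent.Helper28.Fi23a.Data
set_option autoImplicit false
set_option maxRecDepth 1000000
namespace Cfsg.Agent.Helper28.Fi23a
open Cfsg.Agent.Helper28
theorem perm_piece_100_9 : permPieceF tabs.word letSel 109 1 8883 987 = true := by decide +kernel
theorem perm_piece_100_10 : permPieceF tabs.word letSel 109 1 9870 987 = true := by decide +kernel
theorem perm_piece_100_11 : permPieceF tabs.word letSel 109 1 10857 987 = true := by decide +kernel
theorem perm_piece_100_12 : permPieceF tabs.word letSel 109 1 11844 987 = true := by decide +kernel
theorem perm_piece_100_13 : permPieceF tabs.word letSel 109 1 12831 987 = true := by decide +kernel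
theorem perm_piece_100_14 : permPieceF tabs.word letSel 109 1 13818 987 = true := by decide +kernel
theorem perm_piece_100_15 : permPieceF tabs.word letSel 109 1 14805 987 = true := by decide +kernel
theorem perm_piece_100_16 : permPieceF tabs.word letSel 109 1 15792 987 = true := by decide +kernel
end Cfsg.Agent.Helper28.Fi23a
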