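import Cfsg.Agent.Helper28.Fi23a.Data
set_option autoImplicit false
set_option maxRecDepth 1000000
namespace Cfsg.Agent.Helper28.Fi23a
open Cfsg.Agent.Helper28
theorem perm_piece_100_17 : permPieceF tabs.word letSel 109 1 16779 987 = true := by decide +kernel
theorem perm_piece_100_18 : permPieceF tabs.word letSel 109 1 17766 987 = true := by decide +kernel
theorem perm_piece_100_19 : permPieceF tabs.word letSel 109 1 18753 987 = true := by decide +kernel
theorem perm_piece_100_20 : permPieceF tabs.word letSel 109 1 19740 987 = true := by decide +kernel
theorem perm_piece_100_21 : permPieceF tabs.word letSel 109 1 20727 987 = true := by decide +kernel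
theorem perm_piece_100_22 : permPieceF tabs.word letSel 109 1 21714 987 = true := by decide +kernel
theorem perm_piece_100_23 : permPieceF tabs.word letSel 109 1 22701 987 = true := by decide +kernel
theorem perm_piece_100_24 : permPieceF tabs.word letSel 109 1 23688 987 = true := by decide +kernel
end Cfsg.Agent.Helper28.Fi23a
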