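import Cfsg.Agent.Helper28.Fi23a.Data
set_option autoImplicit false
set_option maxRecDepth 1000000
namespace Cfsg.Agent.Helper28.Fi23a
open Cfsg.Agent.Helper28
theorem perm_piece_101_1 : permPieceF tabs.word letSel 110 1 1410 1410 = true := by decide +kernel
theorem perm_piece_101_2 : permPieceF tabs.word letSel 110 1 2820 1410 = true := by decide +kernel
theorem perm_piece_101_3 : permPieceF tabs.word letSel 110 1 4230 1410 = true := by decide +kernel
theorem perm_piece_101_4 : permPieceF tabs.word letSel 110 1 5640 1410 = true := by decide +kernel
theorem perm_piece_101_5 : permPieceF tabs.word letSel 110 1 7050 1410 = true := by decide +kernel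
theorem perm_piece_101_6 : permPieceF tabs.word letSel 110 1 8460 1410 = true := by decide +kernel
theorem perm_piece_101_7 : permPieceF tabs.word letSel 110 1 9870 1410 = true := by decide +kernel
theorem perm_piece_101_8 : permPieceF tabs.word letSel 110 1 11280 1410 = true := by decide +kernel
end Cfsg.Agent.Helper28.Fi23a
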