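import Cfsg.Agent.Helper28.Fi23a.Data
set_option autoImplicit false
set_option maxRecDepth 1000000
namespace Cfsg.Agent.Helper28.Fi23a
open Cfsg.Agent.Helper28
theorem perm_piece_101_9 : permPieceF tabs.word letSel 110 1 12690 1410 = true := by decide +kernel
theorem perm_piece_101_10 : permPieceF tabs.word letSel 110 1 14100 1410 = true := by decide +kernel
theorem perm_piece_101_11 : permPieceF tabs.word letSel 110 1 15510 1410 = true := by decide +kernel
theorem perm_piece_101_12 : permPieceF tabs.word letSel 110 1 16920 1410 = true := by decide +kernel
theorem perm_piece_101_13 : permPieceF tabs.word letSel 110 1 18330 1410 = true := by decide +kernel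
theorem perm_piece_101_14 : permPieceF tabs.word letSel 110 1 19740 1410 = true := by decide +kernel
theorem perm_piece_101_15 : permPieceF tabs.word letSel 110 1 21150 1410 = true := by decide +kernel
theorem perm_piece_101_16 : permPieceF tabs.word letSel 110 1 22560 1410 = true := by decide +kernel
end Cfsg.Agent.Helper28.Fi23a
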