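import Cfsg.Agent.Helper28.Fi23a.Data
set_option autoImplicit false
set_option maxRecDepth 1000000
namespace Cfsg.Agent.Helper28.Fi23a
open Cfsg.Agent.Helper28
theorem perm_piece_101_17 : permPieceF tabs.word letSel 110 1 23970 1410 = true := by decide +kernel
theorem perm_piece_101_18 : permPieceF tabs.word letSel 110 1 25380 1410 = true := by decide +kernel
theorem perm_piece_101_19 : permPieceF tabs.word letSel 110 1 26790 1410 = true := by decide +kernel
theorem perm_piece_101_20 : permPieceF tabs.word letSel 110 1 28200 1410 = true := by decide +kernel
theorem perm_piece_101_21 : permPieceF tabs.word letSel 110 1 29610 1410 = true := by decide +kernel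
theorem perm_piece_101_22 : permPieceF tabs.word letSel 110 1 31020 651 = true := by decide +kernel
end Cfsg.Agent.Helper28.Fi23a
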