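import Cfsg.Agent.Helper28.Fi23a.Data
set_option autoImplicit false
set_option maxRecDepth 1000000
namespace Cfsg.Agent.Helper28.Fi23a
open Cfsg.Agent.Helper28
theorem perm_piece_28_0 : permPieceF tabs.word letSel 37 1 0 22222 = true := by decide +kernel
theorem perm_piece_28_1 : permPieceF tabs.word letSel 37 1 22222 9449 = true := by decide +kernel
theorem perm_piece_29_0 : permPieceF tabs.word letSel 38 1 0 22222 = true := by decide +kernel
theorem perm_piece_29_1 : permPieceF tabs.word letSel 38 1 22222 9449 = true := by decide +kernel
theorem perm_piece_30_0 : permPieceF tabs.word letSel 39 1 0 22222 = true := by decide +kernel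
theorem perm_piece_30_1 : permPieceF tabs.word letSel 39 1 22222 9449 = true := by decide +kernel
theorem perm_piece_31_0 : permPieceF tabs.word letSel 40 1 0 22222 = true := by decide +kernel
theorem perm_piece_31_1 : permPieceF tabs.word letSel 40 1 22222 9449 = true := by decide +kernel
theorem perm_piece_32_0 : permPieceF tabs.word letSel 41 1 0 14814 = true := by decide +kernel
theorem perm_piece_32_1 : permPieceF tabs.word letSel 41 1 14814 14814 = true := by decide +kernel
theorem perm_piece_32_2 : permPieceF tabs.word letSel 41 1 29628 2043 = true := by decide +kernel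
theorem perm_piece_33_0 : permPieceF tabs.word letSel 42 1 0 31671 = true := by decide +kernel
end Cfsg.Agent.Helper28.Fi23a
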