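import Cfsg.Agent.Helper28.Fi23a.Data
set_option autoImplicit false
set_option maxRecDepth 1000000
namespace Cfsg.Agent.Helper28.Fi23a
open Cfsg.Agent.Helper28
theorem perm_piece_34_0 : permPieceF tabs.word letSel 43 1 0 14814 = true := by decide +kernel
theorem perm_piece_34_1 : permPieceF tabs.word letSel 43 1 14814 14814 = true := by decide +kernel
theorem perm_piece_34_2 : permPieceF tabs.word letSel 43 1 29628 2043 = true := by decide +kernel
theorem perm_piece_35_0 : permPieceF tabs.word letSel 44 1 0 22222 = true := by decide +kernel
theorem perm_piece_35_1 : permPieceF tabs.word letSel 44 1 22222 9449 = true := by decide +kernel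
theorem perm_piece_36_0 : permPieceF tabs.word letSel 45 1 0 22222 = true := by decide +kernel
theorem perm_piece_36_1 : permPieceF tabs.word letSel 45 1 22222 9449 = true := by decide +kernel
theorem perm_piece_37_0 : permPieceF tabs.word letSel 46 1 0 22222 = true := by decide +kernel
theorem perm_piece_37_1 : permPieceF tabs.word letSel 46 1 22222 9449 = true := by decide +kernel
theorem perm_piece_38_0 : permPieceF tabs.word letSel 47 1 0 14814 = true := by decide +kernel
theorem perm_piece_38_1 : permPieceF tabs.word letSel 47 1 14814 14814 = true := by decide +kernel
theorem perm_piece_38_2 : permPieceF tabs.word letSel 47 1 29628 2043 = true := by decide +kernel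
end Cfsg.Agent.Helper28.Fi23a
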