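import Cfsg.Agent.Helper28.Fi23a.Data
set_option autoImplicit false
set_option maxRecDepth 1000000
namespace Cfsg.Agent.Helper28.Fi23a
open Cfsg.Agent.Helper28
theorem perm_piece_50_0 : permPieceF tabs.word letSel 59 1 0 22222 = true := by decide +kernel
theorem perm_piece_50_1 : permPieceF tabs.word letSel 59 1 22222 9449 = true := by decide +kernel
theorem perm_piece_51_0 : permPieceF tabs.word letSel 60 1 0 22222 = true := by decide +kernel
theorem perm_piece_51_1 : permPieceF tabs.word letSel 60 1 22222 9449 = true := by decide +kernel
theorem perm_piece_52_0 : permPieceF tabs.word letSel 61 1 0 22222 = true := by decide +kernel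
theorem perm_piece_52_1 : permPieceF tabs.word letSel 61 1 22222 9449 = true := by decide +kernel
theorem perm_piece_53_0 : permPieceF tabs.word letSel 62 1 0 22222 = true := by decide +kernel
theorem perm_piece_53_1 : permPieceF tabs.word letSel 62 1 22222 9449 = true := by decide +kernel
theorem perm_piece_54_0 : permPieceF tabs.word letSel 63 1 0 14814 = true := by decide +kernel
theorem perm_piece_54_1 : permPieceF tabs.word letSel 63 1 14814 14814 = true := by decide +kernel
theorem perm_piece_54_2 : permPieceF tabs.word letSel 63 1 29628 2043 = true := by decide +kernel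
theorem perm_piece_55_0 : permPieceF tabs.word letSel 64 1 0 31671 = true := by decide +kernel
end Cfsg.Agent.Helper28.Fi23a
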