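import Cfsg.Agent.Helper28.Fi23a.F0
import Cfsg.Agent.Helper28.Fi23a.F1
import Cfsg.Agent.Helper28.Fi23a.F2
import Cfsg.Agent.Helper28.Fi23a.F3
import Cfsg.Agent.Helper28.Fi23a.F4
import Cfsg.Agent.Helper28.Fi23a.F5
import Cfsg.Agent.Helper28.Fi23a.F6
import Cfsg.Agent.Helper28.Fi23a.F7
import Cfsg.Agent.Helper28.Fi23a.F8
import Cfsg.Agent.Helper28.Fi23a.Fin0
import Cfsg.Agent.Helper28.Fi23a.Fin1
import Cfsg.Agent.Helper28.Fi23a.Fin2
import Cfsg.Agent.Helper28.Fi23a.Fin3
import Cfsg.Agent.Helper28.Fi23a.Fin4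
import Cfsg.Agent.Helper28.Fi23a.Fin5
import Cfsg.Agent.Helper28.Fi23a.Fin6
import Cfsg.Agent.Helper28.Fi23a.Fin7
import Cfsg.Agent.Helper28.Fi23a.Inv0
import Cfsg.Agent.Helper28.Fi23a.Inv1
import Cfsg.Agent.Helper28.Fi23a.Misc0
import Cfsg.Agent.Helper28.Fi23a.P0
import Cfsg.Agent.Helper28.Fi23a.P1
import Cfsg.Agent.Helper28.Fi23a.P2
import Cfsg.Agent.Helper28.Fi23a.P3
import Cfsg.Agent.Helper28.Fi23a.P4
import Cfsg.Agent.Helper28.Fi23a.P5
import Cfsg.Agent.Helper28.Fi23a.P6
import Cfsg.Agent.Helper28.Fi23a.P7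
import Cfsg.Agent.Helper28.Fi23a.P8
import Cfsg.Agent.Helper28.Fi23a.P9
import Cfsg.Agent.Helper28.Fi23a.P10
import Cfsg.Agent.Helper28.Fi23a.P11
import Cfsg.Agent.Helper28.Fi23a.P12
import Cfsg.Agent.Helper28.Fi23a.P13
import Cfsg.Agent.Helper28.Fi23a.P14
import Cfsg.Agent.Helper28.Fi23a.P15
import Cfsg.Agent.Helper28.Fi23a.P16
import Cfsg.Agent.Helper28.Fi23a.P17
import Cfsg.Agent.Helper28.Fi23a.P18
import Cfsg.Agent.Helper28.Fi23a.P19
import Cfsg.Agent.Helper28.Fi23a.P20
import Cfsg.Agent.Helper28.Fi23a.P21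
import Cfsg.Agent.Helper28.Fi23a.P22
import Cfsg.Agent.Helper28.Fi23a.P23
import Cfsg.Agent.Helper28.Fi23a.P24
import Cfsg.Agent.Helper28.Fi23a.Orb0
import Cfsg.Agent.Helper28.Fi23a.Orb1
set_option autoImplicit false
namespace Cfsg.Agent.Helper28.Fi23a
open Cfsg.Agent.Helper28
theorem fin_upto0 : allLt (finRow tabs ptabs 334000) 500 = true :=
  allLt_extend _ 0 500 500 rfl (allLt_zero _) fin_piece0
theorem fin_upto1 : allLt (finRow tabs ptabs 334000) 1000 = true :=
  allLt_extend _ 500 500 1000 rfl fin_upto0 fin_piece1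
theorem fin_upto2 : allLt (finRow tabs ptabs 334000) 1500 = true :=
  allLt_extend _ 1000 500 1500 rfl fin_upto1 fin_piece2
theorem fin_upto3 : allLt (finRow tabs ptabs 334000) 2000 = true :=
  allLt_extend _ 1500 500 2000 rfl fin_upto2 fin_piece3
theorem fin_upto4 : allLt (finRow tabs ptabs 334000) 2500 = true :=
  allLt_extend _ 2000 500 2500 rfl fin_upto3 fin_piece4
theorem fin_upto5 : allLt (finRow tabs ptabs 334000) 3000 = true :=
  allLt_extend _ 2500 500 3000 rfl fin_upto4 fin_piece5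
theorem fin_upto6 : allLt (finRow tabs ptabs 334000) 3500 = true :=
  allLt_extend _ 3000 500 3500 rfl fin_upto5 fin_piece6
theorem fin_upto7 : allLt (finRow tabs ptabs 334000) 4000 = true :=
  allLt_extend _ 3500 500 4000 rfl fin_upto6 fin_piece7
theorem fin_upto8 : allLt (finRow tabs ptabs 334000) 4500 = true :=
  allLt_extend _ 4000 500 4500 rfl fin_upto7 fin_piece8
theorem fin_upto9 : allLt (finRow tabs ptabs 334000) 5000 = true :=
  allLt_extend _ 4500 500 5000 rfl fin_upto8 fin_piece9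
theorem fin_upto10 : allLt (finRow tabs ptabs 334000) 5500 = true :=
  allLt_extend _ 5000 500 5500 rfl fin_upto9 fin_piece10
theorem fin_upto11 : allLt (finRow tabs ptabs 334000) 6000 = true :=
  allLt_extend _ 5500 500 6000 rfl fin_upto10 fin_piece11
theorem fin_upto12 : allLt (finRow tabs ptabs 334000) 6500 = true :=
  allLt_extend _ 6000 500 6500 rfl fin_upto11 fin_piece12
theorem fin_upto13 : allLt (finRow tabs ptabs 334000) 7000 = true :=
  allLt_extend _ 6500 500 7000 rfl fin_upto12 fin_piece13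
theorem fin_upto14 : allLt (finRow tabs ptabs 334000) 7500 = true :=
  allLt_extend _ 7000 500 7500 rfl fin_upto13 fin_piece14
theorem fin_upto15 : allLt (finRow tabs ptabs 334000) 8000 = true :=
  allLt_extend _ 7500 500 8000 rfl fin_upto14 fin_piece15
theorem fin_upto16 : allLt (finRow tabs ptabs 334000) 8500 = true :=
  allLt_extend _ 8000 500 8500 rfl fin_upto15 fin_piece16
theorem fin_upto17 : allLt (finRow tabs ptabs 334000) 9000 = true :=
  allLt_extend _ 8500 500 9000 rfl fin_upto16 fin_piece17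
theorem fin_upto18 : allLt (finRow tabs ptabs 334000) 9500 = true :=
  allLt_extend _ 9000 500 9500 rfl fin_upto17 fin_piece18
theorem fin_upto19 : allLt (finRow tabs ptabs 334000) 10000 = true :=
  allLt_extend _ 9500 500 10000 rfl fin_upto18 fin_piece19
theorem fin_upto20 : allLt (finRow tabs ptabs 334000) 10500 = true :=
  allLt_extend _ 10000 500 10500 rfl fin_upto19 fin_piece20
theorem fin_upto21 : allLt (finRow tabs ptabs 334000) 11000 = true :=
  allLt_extend _ 10500 500 11000 rfl fin_upto20 fin_piece21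
theorem fin_upto22 : allLt (finRow tabs ptabs 334000) 11500 = true :=
  allLt_extend _ 11000 500 11500 rfl fin_upto21 fin_piece22
theorem fin_upto23 : allLt (finRow tabs ptabs 334000) 12000 = true :=
  allLt_extend _ 11500 500 12000 rfl fin_upto22 fin_piece23
theorem fin_upto24 : allLt (finRow tabs ptabs 334000) 12500 = true :=
  allLt_extend _ 12000 500 12500 rfl fin_upto23 fin_piece24
theorem fin_upto25 : allLt (finRow tabs ptabs 334000) 13000 = true :=
  allLt_extend _ 12500 500 13000 rfl fin_upto24 fin_piece25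
theorem fin_upto26 : allLt (finRow tabs ptabs 334000) 13500 = true :=
  allLt_extend _ 13000 500 13500 rfl fin_upto25 fin_piece26
theorem fin_upto27 : allLt (finRow tabs ptabs 334000) 14000 = true :=
  allLt_extend _ 13500 500 14000 rfl fin_upto26 fin_piece27
theorem fin_upto28 : allLt (finRow tabs ptabs 334000) 14500 = true :=
  allLt_extend _ 14000 500 14500 rfl fin_upto27 fin_piece28
theorem fin_upto29 : allLt (finRow tabs ptabs 334000) 15000 = true :=
  allLt_extend _ 14500 500 15000 rfl fin_upto28 fin_piece29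
theorem fin_upto30 : allLt (finRow tabs ptabs 334000) 15500 = true :=
  allLt_extend _ 15000 500 15500 rfl fin_upto29 fin_piece30
theorem fin_upto31 : allLt (finRow tabs ptabs 334000) 16000 = true :=
  allLt_extend _ 15500 500 16000 rfl fin_upto30 fin_piece31
theorem fin_upto32 : allLt (finRow tabs ptabs 334000) 16500 = true :=
  allLt_extend _ 16000 500 16500 rfl fin_upto31 fin_piece32
theorem fin_upto33 : allLt (finRow tabs ptabs 334000) 17000 = true :=
  allLt_extend _ 16500 500 17000 rfl fin_upto32 fin_piece33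
theorem fin_upto34 : allLt (finRow tabs ptabs 334000) 17500 = true :=
  allLt_extend _ 17000 500 17500 rfl fin_upto33 fin_piece34
theorem fin_upto35 : allLt (finRow tabs ptabs 334000) 18000 = true :=
  allLt_extend _ 17500 500 18000 rfl fin_upto34 fin_piece35
theorem fin_upto36 : allLt (finRow tabs ptabs 334000) 18500 = true :=
  allLt_extend _ 18000 500 18500 rfl fin_upto35 fin_piece36
theorem fin_upto37 : allLt (finRow tabs ptabs 334000) 19000 = true :=
  allLt_extend _ 18500 500 19000 rfl fin_upto36 fin_piece37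
theorem fin_upto38 : allLt (finRow tabs ptabs 334000) 19500 = true :=
  allLt_extend _ 19000 500 19500 rfl fin_upto37 fin_piece38
theorem fin_upto39 : allLt (finRow tabs ptabs 334000) 20000 = true :=
  allLt_extend _ 19500 500 20000 rfl fin_upto38 fin_piece39
theorem fin_upto40 : allLt (finRow tabs ptabs 334000) 20500 = true :=
  allLt_extend _ 20000 500 20500 rfl fin_upto39 fin_piece40
theorem fin_upto41 : allLt (finRow tabs ptabs 334000) 21000 = true :=
  allLt_extend _ 20500 500 21000 rfl fin_upto40 fin_piece41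
theorem fin_upto42 : allLt (finRow tabs ptabs 334000) 21500 = true :=
  allLt_extend _ 21000 500 21500 rfl fin_upto41 fin_piece42
theorem fin_upto43 : allLt (finRow tabs ptabs 334000) 22000 = true :=
  allLt_extend _ 21500 500 22000 rfl fin_upto42 fin_piece43
theorem fin_upto44 : allLt (finRow tabs ptabs 334000) 22500 = true :=
  allLt_extend _ 22000 500 22500 rfl fin_upto43 fin_piece44
theorem fin_upto45 : allLt (finRow tabs ptabs 334000) 23000 = true :=
  allLt_extend _ 22500 500 23000 rfl fin_upto44 fin_piece45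
theorem fin_upto46 : allLt (finRow tabs ptabs 334000) 23500 = true :=
  allLt_extend _ 23000 500 23500 rfl fin_upto45 fin_piece46
theorem fin_upto47 : allLt (finRow tabs ptabs 334000) 24000 = true :=
  allLt_extend _ 23500 500 24000 rfl fin_upto46 fin_piece47
theorem fin_upto48 : allLt (finRow tabs ptabs 334000) 24500 = true :=
  allLt_extend _ 24000 500 24500 rfl fin_upto47 fin_piece48
theorem fin_upto49 : allLt (finRow tabs ptabs 334000) 25000 = true :=
  allLt_extend _ 24500 500 25000 rfl fin_upto48 fin_piece49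
theorem fin_upto50 : allLt (finRow tabs ptabs 334000) 25500 = true :=
  allLt_extend _ 25000 500 25500 rfl fin_upto49 fin_piece50
theorem fin_upto51 : allLt (finRow tabs ptabs 334000) 26000 = true :=
  allLt_extend _ 25500 500 26000 rfl fin_upto50 fin_piece51
theorem fin_upto52 : allLt (finRow tabs ptabs 334000) 26500 = true :=
  allLt_extend _ 26000 500 26500 rfl fin_upto51 fin_piece52
theorem fin_upto53 : allLt (finRow tabs ptabs 334000) 27000 = true :=
  allLt_extend _ 26500 500 27000 rfl fin_upto52 fin_piece53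
theorem fin_upto54 : allLt (finRow tabs ptabs 334000) 27500 = true :=
  allLt_extend _ 27000 500 27500 rfl fin_upto53 fin_piece54
theorem fin_upto55 : allLt (finRow tabs ptabs 334000) 28000 = true :=
  allLt_extend _ 27500 500 28000 rfl fin_upto54 fin_piece55
theorem fin_upto56 : allLt (finRow tabs ptabs 334000) 28500 = true :=
  allLt_extend _ 28000 500 28500 rfl fin_upto55 fin_piece56
theorem fin_upto57 : allLt (finRow tabs ptabs 334000) 29000 = true :=
  allLt_extend _ 28500 500 29000 rfl fin_upto56 fin_piece57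
theorem fin_upto58 : allLt (finRow tabs ptabs 334000) 29500 = true :=
  allLt_extend _ 29000 500 29500 rfl fin_upto57 fin_piece58
theorem fin_upto59 : allLt (finRow tabs ptabs 334000) 30000 = true :=
  allLt_extend _ 29500 500 30000 rfl fin_upto58 fin_piece59
theorem fin_upto60 : allLt (finRow tabs ptabs 334000) 30500 = true :=
  allLt_extend _ 30000 500 30500 rfl fin_upto59 fin_piece60
theorem fin_upto61 : allLt (finRow tabs ptabs 334000) 31000 = true :=
  allLt_extend _ 30500 500 31000 rfl fin_upto60 fin_piece61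
theorem fin_upto62 : allLt (finRow tabs ptabs 334000) 31500 = true :=
  allLt_extend _ 31000 500 31500 rfl fin_upto61 fin_piece62
theorem fin_upto63 : allLt (finRow tabs ptabs 334000) 31671 = true :=
  allLt_extend _ 31500 171 31671 rfl fin_upto62 fin_piece63
theorem fin_ok : checkFin tabs ptabs 334000 = true := (checkFin_eq tabs ptabs 334000).trans fin_upto63
theorem inv_upto0 : allLt (invRow ptabs) 2000 = true :=
  allLt_extend _ 0 2000 2000 rfl (allLt_zero _) inv_piece0
theorem inv_upto1 : allLt (invRow ptabs) 4000 = true :=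
  allLt_extend _ 2000 2000 4000 rfl inv_upto0 inv_piece1
theorem inv_upto2 : allLt (invRow ptabs) 6000 = true :=
  allLt_extend _ 4000 2000 6000 rfl inv_upto1 inv_piece2
theorem inv_upto3 : allLt (invRow ptabs) 8000 = true :=
  allLt_extend _ 6000 2000 8000 rfl inv_upto2 inv_piece3
theorem inv_upto4 : allLt (invRow ptabs) 10000 = true :=
  allLt_extend _ 8000 2000 10000 rfl inv_upto3 inv_piece4
theorem inv_upto5 : allLt (invRow ptabs) 12000 = true :=
  allLt_extend _ 10000 2000 12000 rfl inv_upto4 inv_piece5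
theorem inv_upto6 : allLt (invRow ptabs) 14000 = true :=
  allLt_extend _ 12000 2000 14000 rfl inv_upto5 inv_piece6
theorem inv_upto7 : allLt (invRow ptabs) 16000 = true :=
  allLt_extend _ 14000 2000 16000 rfl inv_upto6 inv_piece7
theorem inv_upto8 : allLt (invRow ptabs) 18000 = true :=
  allLt_extend _ 16000 2000 18000 rfl inv_upto7 inv_piece8
theorem inv_upto9 : allLt (invRow ptabs) 20000 = true :=
  allLt_extend _ 18000 2000 20000 rfl inv_upto8 inv_piece9
theorem inv_upto10 : allLt (invRow ptabs) 22000 = true :=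
  allLt_extend _ 20000 2000 22000 rfl inv_upto9 inv_piece10
theorem inv_upto11 : allLt (invRow ptabs) 24000 = true :=
  allLt_extend _ 22000 2000 24000 rfl inv_upto10 inv_piece11
theorem inv_upto12 : allLt (invRow ptabs) 26000 = true :=
  allLt_extend _ 24000 2000 26000 rfl inv_upto11 inv_piece12
theorem inv_upto13 : allLt (invRow ptabs) 28000 = true :=
  allLt_extend _ 26000 2000 28000 rfl inv_upto12 inv_piece13
theorem inv_upto14 : allLt (invRow ptabs) 30000 = true :=
  allLt_extend _ 28000 2000 30000 rfl inv_upto13 inv_piece14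
theorem inv_upto15 : allLt (invRow ptabs) 31671 = true :=
  allLt_extend _ 30000 1671 31671 rfl inv_upto14 inv_piece15
theorem inv_ok : invOk ptabs = true := (invOk_eq ptabs).trans inv_upto15
theorem defs_upto0 : allLt (defOk tabs) 42086 = true :=
  allLt_extend _ 0 42086 42086 rfl (allLt_zero _) defs_piece0
theorem defs_ok : checkDefs tabs = true := (checkDefs_eq tabs).trans defs_upto0
theorem par_upto0 : allLt (parRow ptabs) 31671 = true :=
  allLt_extend _ 0 31671 31671 rfl (allLt_zero _) par_piece0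
theorem par_ok : parOk ptabs = true := (parOk_eq ptabs).trans par_upto0
theorem orb_upto0 : allLt (orbOk tabs ptabs orb) 3076 = true :=
  allLt_extend _ 0 3076 3076 rfl (allLt_zero _) orb_piece0
theorem orb_upto1 : allLt (orbOk tabs ptabs orb) 6152 = true :=
  allLt_extend _ 3076 3076 6152 rfl orb_upto0 orb_piece1
theorem orb_upto2 : allLt (orbOk tabs ptabs orb) 9228 = true :=
  allLt_extend _ 6152 3076 9228 rfl orb_upto1 orb_piece2
theorem orb_upto3 : allLt (orbOk tabs ptabs orb) 12304 = true :=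
  allLt_extend _ 9228 3076 12304 rfl orb_upto2 orb_piece3
theorem orb_upto4 : allLt (orbOk tabs ptabs orb) 15380 = true :=
  allLt_extend _ 12304 3076 15380 rfl orb_upto3 orb_piece4
theorem orb_upto5 : allLt (orbOk tabs ptabs orb) 18456 = true :=
  allLt_extend _ 15380 3076 18456 rfl orb_upto4 orb_piece5
theorem orb_upto6 : allLt (orbOk tabs ptabs orb) 21532 = true :=
  allLt_extend _ 18456 3076 21532 rfl orb_upto5 orb_piece6
theorem orb_upto7 : allLt (orbOk tabs ptabs orb) 24608 = true :=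
  allLt_extend _ 21532 3076 24608 rfl orb_upto6 orb_piece7
theorem orb_upto8 : allLt (orbOk tabs ptabs orb) 27684 = true :=
  allLt_extend _ 24608 3076 27684 rfl orb_upto7 orb_piece8
theorem orb_upto9 : allLt (orbOk tabs ptabs orb) 30760 = true :=
  allLt_extend _ 27684 3076 30760 rfl orb_upto8 orb_piece9
theorem orb_upto10 : allLt (orbOk tabs ptabs orb) 31671 = true :=
  allLt_extend _ 30760 911 31671 rfl orb_upto9 orb_piece10
theorem orb_ok : checkOrb tabs ptabs orb = true := (checkOrb_eq tabs ptabs orb).trans orb_upto10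
theorem perm_g0_upto0 : TraceFix ptabs.perm tabs.word 9 1 31671 :=
  traceFix_extendF _ _ letSel perm_eq 9 1 0 31671 31671 rfl (traceFix_zero _ _ 9 1) perm_piece_0_0
theorem perm_g0 : ∀ r, 9 ≤ r → r < 9 + 1 → relOk ptabs (tabs.word r) 0 ptabs.n = true :=
  relOk_of_traceFix ptabs tabs.word 9 1 perm_g0_upto0
theorem perm_g1_upto0 : TraceFix ptabs.perm tabs.word 10 1 14814 :=
  traceFix_extendF _ _ letSel perm_eq 10 1 0 14814 14814 rfl (traceFix_zero _ _ 10 1) perm_piece_1_0
theorem perm_g1_upto1 : TraceFix ptabs.perm tabs.word 10 1 29628 :=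
  traceFix_extendF _ _ letSel perm_eq 10 1 14814 14814 29628 rfl perm_g1_upto0 perm_piece_1_1
theorem perm_g1_upto2 : TraceFix ptabs.perm tabs.word 10 1 31671 :=
  traceFix_extendF _ _ letSel perm_eq 10 1 29628 2043 31671 rfl perm_g1_upto1 perm_piece_1_2
theorem perm_g1 : ∀ r, 10 ≤ r → r < 10 + 1 → relOk ptabs (tabs.word r) 0 ptabs.n = true :=
  relOk_of_traceFix ptabs tabs.word 10 1 perm_g1_upto2
theorem perm_g2_upto0 : TraceFix ptabs.perm tabs.word 11 1 22222 :=
  traceFix_extendF _ _ letSel perm_eq 11 1 0 22222 22222 rfl (traceFix_zero _ _ 11 1) perm_piece_2_0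
theorem perm_g2_upto1 : TraceFix ptabs.perm tabs.word 11 1 31671 :=
  traceFix_extendF _ _ letSel perm_eq 11 1 22222 9449 31671 rfl perm_g2_upto0 perm_piece_2_1
theorem perm_g2 : ∀ r, 11 ≤ r → r < 11 + 1 → relOk ptabs (tabs.word r) 0 ptabs.n = true :=
  relOk_of_traceFix ptabs tabs.word 11 1 perm_g2_upto1
theorem perm_g3_upto0 : TraceFix ptabs.perm tabs.word 12 1 22222 :=
  traceFix_extendF _ _ letSel perm_eq 12 1 0 22222 22222 rfl (traceFix_zero _ _ 12 1) perm_piece_3_0
theorem perm_g3_upto1 : TraceFix ptabs.perm tabs.word 12 1 31671 :=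
  traceFix_extendF _ _ letSel perm_eq 12 1 22222 9449 31671 rfl perm_g3_upto0 perm_piece_3_1
theorem perm_g3 : ∀ r, 12 ≤ r → r < 12 + 1 → relOk ptabs (tabs.word r) 0 ptabs.n = true :=
  relOk_of_traceFix ptabs tabs.word 12 1 perm_g3_upto1
theorem perm_g4_upto0 : TraceFix ptabs.perm tabs.word 13 1 22222 :=
  traceFix_extendF _ _ letSel perm_eq 13 1 0 22222 22222 rfl (traceFix_zero _ _ 13 1) perm_piece_4_0
theorem perm_g4_upto1 : TraceFix ptabs.perm tabs.word 13 1 31671 :=
  traceFix_extendF _ _ letSel perm_eq 13 1 22222 9449 31671 rfl perm_g4_upto0 perm_piece_4_1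
theorem perm_g4 : ∀ r, 13 ≤ r → r < 13 + 1 → relOk ptabs (tabs.word r) 0 ptabs.n = true :=
  relOk_of_traceFix ptabs tabs.word 13 1 perm_g4_upto1
theorem perm_g5_upto0 : TraceFix ptabs.perm tabs.word 14 1 22222 :=
  traceFix_extendF _ _ letSel perm_eq 14 1 0 22222 22222 rfl (traceFix_zero _ _ 14 1) perm_piece_5_0
theorem perm_g5_upto1 : TraceFix ptabs.perm tabs.word 14 1 31671 :=
  traceFix_extendF _ _ letSel perm_eq 14 1 22222 9449 31671 rfl perm_g5_upto0 perm_piece_5_1
theorem perm_g5 : ∀ r, 14 ≤ r → r < 14 + 1 → relOk ptabs (tabs.word r) 0 ptabs.n = true :=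
  relOk_of_traceFix ptabs tabs.word 14 1 perm_g5_upto1
theorem perm_g6_upto0 : TraceFix ptabs.perm tabs.word 15 1 22222 :=
  traceFix_extendF _ _ letSel perm_eq 15 1 0 22222 22222 rfl (traceFix_zero _ _ 15 1) perm_piece_6_0
theorem perm_g6_upto1 : TraceFix ptabs.perm tabs.word 15 1 31671 :=
  traceFix_extendF _ _ letSel perm_eq 15 1 22222 9449 31671 rfl perm_g6_upto0 perm_piece_6_1
theorem perm_g6 : ∀ r, 15 ≤ r → r < 15 + 1 → relOk ptabs (tabs.word r) 0 ptabs.n = true :=
  relOk_of_traceFix ptabs tabs.word 15 1 perm_g6_upto1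
theorem perm_g7_upto0 : TraceFix ptabs.perm tabs.word 16 1 22222 :=
  traceFix_extendF _ _ letSel perm_eq 16 1 0 22222 22222 rfl (traceFix_zero _ _ 16 1) perm_piece_7_0
theorem perm_g7_upto1 : TraceFix ptabs.perm tabs.word 16 1 31671 :=
  traceFix_extendF _ _ letSel perm_eq 16 1 22222 9449 31671 rfl perm_g7_upto0 perm_piece_7_1
theorem perm_g7 : ∀ r, 16 ≤ r → r < 16 + 1 → relOk ptabs (tabs.word r) 0 ptabs.n = true :=
  relOk_of_traceFix ptabs tabs.word 16 1 perm_g7_upto1
theorem perm_g8_upto0 : TraceFix ptabs.perm tabs.word 17 1 22222 :=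
  traceFix_extendF _ _ letSel perm_eq 17 1 0 22222 22222 rfl (traceFix_zero _ _ 17 1) perm_piece_8_0
theorem perm_g8_upto1 : TraceFix ptabs.perm tabs.word 17 1 31671 :=
  traceFix_extendF _ _ letSel perm_eq 17 1 22222 9449 31671 rfl perm_g8_upto0 perm_piece_8_1
theorem perm_g8 : ∀ r, 17 ≤ r → r < 17 + 1 → relOk ptabs (tabs.word r) 0 ptabs.n = true :=
  relOk_of_traceFix ptabs tabs.word 17 1 perm_g8_upto1
theorem perm_g9_upto0 : TraceFix ptabs.perm tabs.word 18 1 22222 :=
  traceFix_extendF _ _ letSel perm_eq 18 1 0 22222 22222 rfl (traceFix_zero _ _ 18 1) perm_piece_9_0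
theorem perm_g9_upto1 : TraceFix ptabs.perm tabs.word 18 1 31671 :=
  traceFix_extendF _ _ letSel perm_eq 18 1 22222 9449 31671 rfl perm_g9_upto0 perm_piece_9_1
theorem perm_g9 : ∀ r, 18 ≤ r → r < 18 + 1 → relOk ptabs (tabs.word r) 0 ptabs.n = true :=
  relOk_of_traceFix ptabs tabs.word 18 1 perm_g9_upto1
theorem perm_g10_upto0 : TraceFix ptabs.perm tabs.word 19 1 14814 :=
  traceFix_extendF _ _ letSel perm_eq 19 1 0 14814 14814 rfl (traceFix_zero _ _ 19 1) perm_piece_10_0
theorem perm_g10_upto1 : TraceFix ptabs.perm tabs.word 19 1 29628 :=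
  traceFix_extendF _ _ letSel perm_eq 19 1 14814 14814 29628 rfl perm_g10_upto0 perm_piece_10_1
theorem perm_g10_upto2 : TraceFix ptabs.perm tabs.word 19 1 31671 :=
  traceFix_extendF _ _ letSel perm_eq 19 1 29628 2043 31671 rfl perm_g10_upto1 perm_piece_10_2
theorem perm_g10 : ∀ r, 19 ≤ r → r < 19 + 1 → relOk ptabs (tabs.word r) 0 ptabs.n = true :=
  relOk_of_traceFix ptabs tabs.word 19 1 perm_g10_upto2
theorem perm_g11_upto0 : TraceFix ptabs.perm tabs.word 20 1 31671 :=
  traceFix_extendF _ _ letSel perm_eq 20 1 0 31671 31671 rfl (traceFix_zero _ _ 20 1) perm_piece_11_0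
theorem perm_g11 : ∀ r, 20 ≤ r → r < 20 + 1 → relOk ptabs (tabs.word r) 0 ptabs.n = true :=
  relOk_of_traceFix ptabs tabs.word 20 1 perm_g11_upto0
theorem perm_g12_upto0 : TraceFix ptabs.perm tabs.word 21 1 14814 :=
  traceFix_extendF _ _ letSel perm_eq 21 1 0 14814 14814 rfl (traceFix_zero _ _ 21 1) perm_piece_12_0
theorem perm_g12_upto1 : TraceFix ptabs.perm tabs.word 21 1 29628 :=
  traceFix_extendF _ _ letSel perm_eq 21 1 14814 14814 29628 rfl perm_g12_upto0 perm_piece_12_1
theorem perm_g12_upto2 : TraceFix ptabs.perm tabs.word 21 1 31671 :=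
  traceFix_extendF _ _ letSel perm_eq 21 1 29628 2043 31671 rfl perm_g12_upto1 perm_piece_12_2
theorem perm_g12 : ∀ r, 21 ≤ r → r < 21 + 1 → relOk ptabs (tabs.word r) 0 ptabs.n = true :=
  relOk_of_traceFix ptabs tabs.word 21 1 perm_g12_upto2
theorem perm_g13_upto0 : TraceFix ptabs.perm tabs.word 22 1 22222 :=
  traceFix_extendF _ _ letSel perm_eq 22 1 0 22222 22222 rfl (traceFix_zero _ _ 22 1) perm_piece_13_0
theorem perm_g13_upto1 : TraceFix ptabs.perm tabs.word 22 1 31671 :=
  traceFix_extendF _ _ letSel perm_eq 22 1 22222 9449 31671 rfl perm_g13_upto0 perm_piece_13_1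
theorem perm_g13 : ∀ r, 22 ≤ r → r < 22 + 1 → relOk ptabs (tabs.word r) 0 ptabs.n = true :=
  relOk_of_traceFix ptabs tabs.word 22 1 perm_g13_upto1
theorem perm_g14_upto0 : TraceFix ptabs.perm tabs.word 23 1 22222 :=
  traceFix_extendF _ _ letSel perm_eq 23 1 0 22222 22222 rfl (traceFix_zero _ _ 23 1) perm_piece_14_0
theorem perm_g14_upto1 : TraceFix ptabs.perm tabs.word 23 1 31671 :=
  traceFix_extendF _ _ letSel perm_eq 23 1 22222 9449 31671 rfl perm_g14_upto0 perm_piece_14_1
theorem perm_g14 : ∀ r, 23 ≤ r → r < 23 + 1 → relOk ptabs (tabs.word r) 0 ptabs.n = true :=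
  relOk_of_traceFix ptabs tabs.word 23 1 perm_g14_upto1
theorem perm_g15_upto0 : TraceFix ptabs.perm tabs.word 24 1 22222 :=
  traceFix_extendF _ _ letSel perm_eq 24 1 0 22222 22222 rfl (traceFix_zero _ _ 24 1) perm_piece_15_0
theorem perm_g15_upto1 : TraceFix ptabs.perm tabs.word 24 1 31671 :=
  traceFix_extendF _ _ letSel perm_eq 24 1 22222 9449 31671 rfl perm_g15_upto0 perm_piece_15_1
theorem perm_g15 : ∀ r, 24 ≤ r → r < 24 + 1 → relOk ptabs (tabs.word r) 0 ptabs.n = true :=
  relOk_of_traceFix ptabs tabs.word 24 1 perm_g15_upto1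
theorem perm_g16_upto0 : TraceFix ptabs.perm tabs.word 25 1 22222 :=
  traceFix_extendF _ _ letSel perm_eq 25 1 0 22222 22222 rfl (traceFix_zero _ _ 25 1) perm_piece_16_0
theorem perm_g16_upto1 : TraceFix ptabs.perm tabs.word 25 1 31671 :=
  traceFix_extendF _ _ letSel perm_eq 25 1 22222 9449 31671 rfl perm_g16_upto0 perm_piece_16_1
theorem perm_g16 : ∀ r, 25 ≤ r → r < 25 + 1 → relOk ptabs (tabs.word r) 0 ptabs.n = true :=
  relOk_of_traceFix ptabs tabs.word 25 1 perm_g16_upto1
theorem perm_g17_upto0 : TraceFix ptabs.perm tabs.word 26 1 22222 :=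
  traceFix_extendF _ _ letSel perm_eq 26 1 0 22222 22222 rfl (traceFix_zero _ _ 26 1) perm_piece_17_0
theorem perm_g17_upto1 : TraceFix ptabs.perm tabs.word 26 1 31671 :=
  traceFix_extendF _ _ letSel perm_eq 26 1 22222 9449 31671 rfl perm_g17_upto0 perm_piece_17_1
theorem perm_g17 : ∀ r, 26 ≤ r → r < 26 + 1 → relOk ptabs (tabs.word r) 0 ptabs.n = true :=
  relOk_of_traceFix ptabs tabs.word 26 1 perm_g17_upto1
theorem perm_g18_upto0 : TraceFix ptabs.perm tabs.word 27 1 22222 :=
  traceFix_extendF _ _ letSel perm_eq 27 1 0 22222 22222 rfl (traceFix_zero _ _ 27 1) perm_piece_18_0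
theorem perm_g18_upto1 : TraceFix ptabs.perm tabs.word 27 1 31671 :=
  traceFix_extendF _ _ letSel perm_eq 27 1 22222 9449 31671 rfl perm_g18_upto0 perm_piece_18_1
theorem perm_g18 : ∀ r, 27 ≤ r → r < 27 + 1 → relOk ptabs (tabs.word r) 0 ptabs.n = true :=
  relOk_of_traceFix ptabs tabs.word 27 1 perm_g18_upto1
theorem perm_g19_upto0 : TraceFix ptabs.perm tabs.word 28 1 22222 :=
  traceFix_extendF _ _ letSel perm_eq 28 1 0 22222 22222 rfl (traceFix_zero _ _ 28 1) perm_piece_19_0
theorem perm_g19_upto1 : TraceFix ptabs.perm tabs.word 28 1 31671 :=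
  traceFix_extendF _ _ letSel perm_eq 28 1 22222 9449 31671 rfl perm_g19_upto0 perm_piece_19_1
theorem perm_g19 : ∀ r, 28 ≤ r → r < 28 + 1 → relOk ptabs (tabs.word r) 0 ptabs.n = true :=
  relOk_of_traceFix ptabs tabs.word 28 1 perm_g19_upto1
theorem perm_g20_upto0 : TraceFix ptabs.perm tabs.word 29 1 22222 :=
  traceFix_extendF _ _ letSel perm_eq 29 1 0 22222 22222 rfl (traceFix_zero _ _ 29 1) perm_piece_20_0
theorem perm_g20_upto1 : TraceFix ptabs.perm tabs.word 29 1 31671 :=
  traceFix_extendF _ _ letSel perm_eq 29 1 22222 9449 31671 rfl perm_g20_upto0 perm_piece_20_1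
theorem perm_g20 : ∀ r, 29 ≤ r → r < 29 + 1 → relOk ptabs (tabs.word r) 0 ptabs.n = true :=
  relOk_of_traceFix ptabs tabs.word 29 1 perm_g20_upto1
theorem perm_g21_upto0 : TraceFix ptabs.perm tabs.word 30 1 14814 :=
  traceFix_extendF _ _ letSel perm_eq 30 1 0 14814 14814 rfl (traceFix_zero _ _ 30 1) perm_piece_21_0
theorem perm_g21_upto1 : TraceFix ptabs.perm tabs.word 30 1 29628 :=
  traceFix_extendF _ _ letSel perm_eq 30 1 14814 14814 29628 rfl perm_g21_upto0 perm_piece_21_1
theorem perm_g21_upto2 : TraceFix ptabs.perm tabs.word 30 1 31671 :=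
  traceFix_extendF _ _ letSel perm_eq 30 1 29628 2043 31671 rfl perm_g21_upto1 perm_piece_21_2
theorem perm_g21 : ∀ r, 30 ≤ r → r < 30 + 1 → relOk ptabs (tabs.word r) 0 ptabs.n = true :=
  relOk_of_traceFix ptabs tabs.word 30 1 perm_g21_upto2
theorem perm_g22_upto0 : TraceFix ptabs.perm tabs.word 31 1 31671 :=
  traceFix_extendF _ _ letSel perm_eq 31 1 0 31671 31671 rfl (traceFix_zero _ _ 31 1) perm_piece_22_0
theorem perm_g22 : ∀ r, 31 ≤ r → r < 31 + 1 → relOk ptabs (tabs.word r) 0 ptabs.n = true :=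
  relOk_of_traceFix ptabs tabs.word 31 1 perm_g22_upto0
theorem perm_g23_upto0 : TraceFix ptabs.perm tabs.word 32 1 14814 :=
  traceFix_extendF _ _ letSel perm_eq 32 1 0 14814 14814 rfl (traceFix_zero _ _ 32 1) perm_piece_23_0
theorem perm_g23_upto1 : TraceFix ptabs.perm tabs.word 32 1 29628 :=
  traceFix_extendF _ _ letSel perm_eq 32 1 14814 14814 29628 rfl perm_g23_upto0 perm_piece_23_1
theorem perm_g23_upto2 : TraceFix ptabs.perm tabs.word 32 1 31671 :=
  traceFix_extendF _ _ letSel perm_eq 32 1 29628 2043 31671 rfl perm_g23_upto1 perm_piece_23_2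
theorem perm_g23 : ∀ r, 32 ≤ r → r < 32 + 1 → relOk ptabs (tabs.word r) 0 ptabs.n = true :=
  relOk_of_traceFix ptabs tabs.word 32 1 perm_g23_upto2
theorem perm_g24_upto0 : TraceFix ptabs.perm tabs.word 33 1 22222 :=
  traceFix_extendF _ _ letSel perm_eq 33 1 0 22222 22222 rfl (traceFix_zero _ _ 33 1) perm_piece_24_0
theorem perm_g24_upto1 : TraceFix ptabs.perm tabs.word 33 1 31671 :=
  traceFix_extendF _ _ letSel perm_eq 33 1 22222 9449 31671 rfl perm_g24_upto0 perm_piece_24_1
theorem perm_g24 : ∀ r, 33 ≤ r → r < 33 + 1 → relOk ptabs (tabs.word r) 0 ptabs.n = true :=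
  relOk_of_traceFix ptabs tabs.word 33 1 perm_g24_upto1
theorem perm_g25_upto0 : TraceFix ptabs.perm tabs.word 34 1 22222 :=
  traceFix_extendF _ _ letSel perm_eq 34 1 0 22222 22222 rfl (traceFix_zero _ _ 34 1) perm_piece_25_0
theorem perm_g25_upto1 : TraceFix ptabs.perm tabs.word 34 1 31671 :=
  traceFix_extendF _ _ letSel perm_eq 34 1 22222 9449 31671 rfl perm_g25_upto0 perm_piece_25_1
theorem perm_g25 : ∀ r, 34 ≤ r → r < 34 + 1 → relOk ptabs (tabs.word r) 0 ptabs.n = true :=
  relOk_of_traceFix ptabs tabs.word 34 1 perm_g25_upto1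
theorem perm_g26_upto0 : TraceFix ptabs.perm tabs.word 35 1 22222 :=
  traceFix_extendF _ _ letSel perm_eq 35 1 0 22222 22222 rfl (traceFix_zero _ _ 35 1) perm_piece_26_0
theorem perm_g26_upto1 : TraceFix ptabs.perm tabs.word 35 1 31671 :=
  traceFix_extendF _ _ letSel perm_eq 35 1 22222 9449 31671 rfl perm_g26_upto0 perm_piece_26_1
theorem perm_g26 : ∀ r, 35 ≤ r → r < 35 + 1 → relOk ptabs (tabs.word r) 0 ptabs.n = true :=
  relOk_of_traceFix ptabs tabs.word 35 1 perm_g26_upto1
theorem perm_g27_upto0 : TraceFix ptabs.perm tabs.word 36 1 22222 :=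
  traceFix_extendF _ _ letSel perm_eq 36 1 0 22222 22222 rfl (traceFix_zero _ _ 36 1) perm_piece_27_0
theorem perm_g27_upto1 : TraceFix ptabs.perm tabs.word 36 1 31671 :=
  traceFix_extendF _ _ letSel perm_eq 36 1 22222 9449 31671 rfl perm_g27_upto0 perm_piece_27_1
theorem perm_g27 : ∀ r, 36 ≤ r → r < 36 + 1 → relOk ptabs (tabs.word r) 0 ptabs.n = true :=
  relOk_of_traceFix ptabs tabs.word 36 1 perm_g27_upto1
theorem perm_g28_upto0 : TraceFix ptabs.perm tabs.word 37 1 22222 :=
  traceFix_extendF _ _ letSel perm_eq 37 1 0 22222 22222 rfl (traceFix_zero _ _ 37 1) perm_piece_28_0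
theorem perm_g28_upto1 : TraceFix ptabs.perm tabs.word 37 1 31671 :=
  traceFix_extendF _ _ letSel perm_eq 37 1 22222 9449 31671 rfl perm_g28_upto0 perm_piece_28_1
theorem perm_g28 : ∀ r, 37 ≤ r → r < 37 + 1 → relOk ptabs (tabs.word r) 0 ptabs.n = true :=
  relOk_of_traceFix ptabs tabs.word 37 1 perm_g28_upto1
theorem perm_g29_upto0 : TraceFix ptabs.perm tabs.word 38 1 22222 :=
  traceFix_extendF _ _ letSel perm_eq 38 1 0 22222 22222 rfl (traceFix_zero _ _ 38 1) perm_piece_29_0
theorem perm_g29_upto1 : TraceFix ptabs.perm tabs.word 38 1 31671 :=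
  traceFix_extendF _ _ letSel perm_eq 38 1 22222 9449 31671 rfl perm_g29_upto0 perm_piece_29_1
theorem perm_g29 : ∀ r, 38 ≤ r → r < 38 + 1 → relOk ptabs (tabs.word r) 0 ptabs.n = true :=
  relOk_of_traceFix ptabs tabs.word 38 1 perm_g29_upto1
theorem perm_g30_upto0 : TraceFix ptabs.perm tabs.word 39 1 22222 :=
  traceFix_extendF _ _ letSel perm_eq 39 1 0 22222 22222 rfl (traceFix_zero _ _ 39 1) perm_piece_30_0
theorem perm_g30_upto1 : TraceFix ptabs.perm tabs.word 39 1 31671 :=
  traceFix_extendF _ _ letSel perm_eq 39 1 22222 9449 31671 rfl perm_g30_upto0 perm_piece_30_1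
theorem perm_g30 : ∀ r, 39 ≤ r → r < 39 + 1 → relOk ptabs (tabs.word r) 0 ptabs.n = true :=
  relOk_of_traceFix ptabs tabs.word 39 1 perm_g30_upto1
theorem perm_g31_upto0 : TraceFix ptabs.perm tabs.word 40 1 22222 :=
  traceFix_extendF _ _ letSel perm_eq 40 1 0 22222 22222 rfl (traceFix_zero _ _ 40 1) perm_piece_31_0
theorem perm_g31_upto1 : TraceFix ptabs.perm tabs.word 40 1 31671 :=
  traceFix_extendF _ _ letSel perm_eq 40 1 22222 9449 31671 rfl perm_g31_upto0 perm_piece_31_1
theorem perm_g31 : ∀ r, 40 ≤ r → r < 40 + 1 → relOk ptabs (tabs.word r) 0 ptabs.n = true :=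
  relOk_of_traceFix ptabs tabs.word 40 1 perm_g31_upto1
theorem perm_g32_upto0 : TraceFix ptabs.perm tabs.word 41 1 14814 :=
  traceFix_extendF _ _ letSel perm_eq 41 1 0 14814 14814 rfl (traceFix_zero _ _ 41 1) perm_piece_32_0
theorem perm_g32_upto1 : TraceFix ptabs.perm tabs.word 41 1 29628 :=
  traceFix_extendF _ _ letSel perm_eq 41 1 14814 14814 29628 rfl perm_g32_upto0 perm_piece_32_1
theorem perm_g32_upto2 : TraceFix ptabs.perm tabs.word 41 1 31671 :=
  traceFix_extendF _ _ letSel perm_eq 41 1 29628 2043 31671 rfl perm_g32_upto1 perm_piece_32_2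
theorem perm_g32 : ∀ r, 41 ≤ r → r < 41 + 1 → relOk ptabs (tabs.word r) 0 ptabs.n = true :=
  relOk_of_traceFix ptabs tabs.word 41 1 perm_g32_upto2
theorem perm_g33_upto0 : TraceFix ptabs.perm tabs.word 42 1 31671 :=
  traceFix_extendF _ _ letSel perm_eq 42 1 0 31671 31671 rfl (traceFix_zero _ _ 42 1) perm_piece_33_0
theorem perm_g33 : ∀ r, 42 ≤ r → r < 42 + 1 → relOk ptabs (tabs.word r) 0 ptabs.n = true :=
  relOk_of_traceFix ptabs tabs.word 42 1 perm_g33_upto0
theorem perm_g34_upto0 : TraceFix ptabs.perm tabs.word 43 1 14814 :=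
  traceFix_extendF _ _ letSel perm_eq 43 1 0 14814 14814 rfl (traceFix_zero _ _ 43 1) perm_piece_34_0
theorem perm_g34_upto1 : TraceFix ptabs.perm tabs.word 43 1 29628 :=
  traceFix_extendF _ _ letSel perm_eq 43 1 14814 14814 29628 rfl perm_g34_upto0 perm_piece_34_1
theorem perm_g34_upto2 : TraceFix ptabs.perm tabs.word 43 1 31671 :=
  traceFix_extendF _ _ letSel perm_eq 43 1 29628 2043 31671 rfl perm_g34_upto1 perm_piece_34_2
theorem perm_g34 : ∀ r, 43 ≤ r → r < 43 + 1 → relOk ptabs (tabs.word r) 0 ptabs.n = true :=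
  relOk_of_traceFix ptabs tabs.word 43 1 perm_g34_upto2
theorem perm_g35_upto0 : TraceFix ptabs.perm tabs.word 44 1 22222 :=
  traceFix_extendF _ _ letSel perm_eq 44 1 0 22222 22222 rfl (traceFix_zero _ _ 44 1) perm_piece_35_0
theorem perm_g35_upto1 : TraceFix ptabs.perm tabs.word 44 1 31671 :=
  traceFix_extendF _ _ letSel perm_eq 44 1 22222 9449 31671 rfl perm_g35_upto0 perm_piece_35_1
theorem perm_g35 : ∀ r, 44 ≤ r → r < 44 + 1 → relOk ptabs (tabs.word r) 0 ptabs.n = true :=
  relOk_of_traceFix ptabs tabs.word 44 1 perm_g35_upto1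
theorem perm_g36_upto0 : TraceFix ptabs.perm tabs.word 45 1 22222 :=
  traceFix_extendF _ _ letSel perm_eq 45 1 0 22222 22222 rfl (traceFix_zero _ _ 45 1) perm_piece_36_0
theorem perm_g36_upto1 : TraceFix ptabs.perm tabs.word 45 1 31671 :=
  traceFix_extendF _ _ letSel perm_eq 45 1 22222 9449 31671 rfl perm_g36_upto0 perm_piece_36_1
theorem perm_g36 : ∀ r, 45 ≤ r → r < 45 + 1 → relOk ptabs (tabs.word r) 0 ptabs.n = true :=
  relOk_of_traceFix ptabs tabs.word 45 1 perm_g36_upto1
theorem perm_g37_upto0 : TraceFix ptabs.perm tabs.word 46 1 22222 :=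
  traceFix_extendF _ _ letSel perm_eq 46 1 0 22222 22222 rfl (traceFix_zero _ _ 46 1) perm_piece_37_0
theorem perm_g37_upto1 : TraceFix ptabs.perm tabs.word 46 1 31671 :=
  traceFix_extendF _ _ letSel perm_eq 46 1 22222 9449 31671 rfl perm_g37_upto0 perm_piece_37_1
theorem perm_g37 : ∀ r, 46 ≤ r → r < 46 + 1 → relOk ptabs (tabs.word r) 0 ptabs.n = true :=
  relOk_of_traceFix ptabs tabs.word 46 1 perm_g37_upto1
theorem perm_g38_upto0 : TraceFix ptabs.perm tabs.word 47 1 14814 :=
  traceFix_extendF _ _ letSel perm_eq 47 1 0 14814 14814 rfl (traceFix_zero _ _ 47 1) perm_piece_38_0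
theorem perm_g38_upto1 : TraceFix ptabs.perm tabs.word 47 1 29628 :=
  traceFix_extendF _ _ letSel perm_eq 47 1 14814 14814 29628 rfl perm_g38_upto0 perm_piece_38_1
theorem perm_g38_upto2 : TraceFix ptabs.perm tabs.word 47 1 31671 :=
  traceFix_extendF _ _ letSel perm_eq 47 1 29628 2043 31671 rfl perm_g38_upto1 perm_piece_38_2
theorem perm_g38 : ∀ r, 47 ≤ r → r < 47 + 1 → relOk ptabs (tabs.word r) 0 ptabs.n = true :=
  relOk_of_traceFix ptabs tabs.word 47 1 perm_g38_upto2
theorem perm_g39_upto0 : TraceFix ptabs.perm tabs.word 48 1 22222 :=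
  traceFix_extendF _ _ letSel perm_eq 48 1 0 22222 22222 rfl (traceFix_zero _ _ 48 1) perm_piece_39_0
theorem perm_g39_upto1 : TraceFix ptabs.perm tabs.word 48 1 31671 :=
  traceFix_extendF _ _ letSel perm_eq 48 1 22222 9449 31671 rfl perm_g39_upto0 perm_piece_39_1
theorem perm_g39 : ∀ r, 48 ≤ r → r < 48 + 1 → relOk ptabs (tabs.word r) 0 ptabs.n = true :=
  relOk_of_traceFix ptabs tabs.word 48 1 perm_g39_upto1
theorem perm_g40_upto0 : TraceFix ptabs.perm tabs.word 49 1 22222 :=
  traceFix_extendF _ _ letSel perm_eq 49 1 0 22222 22222 rfl (traceFix_zero _ _ 49 1) perm_piece_40_0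
theorem perm_g40_upto1 : TraceFix ptabs.perm tabs.word 49 1 31671 :=
  traceFix_extendF _ _ letSel perm_eq 49 1 22222 9449 31671 rfl perm_g40_upto0 perm_piece_40_1
theorem perm_g40 : ∀ r, 49 ≤ r → r < 49 + 1 → relOk ptabs (tabs.word r) 0 ptabs.n = true :=
  relOk_of_traceFix ptabs tabs.word 49 1 perm_g40_upto1
theorem perm_g41_upto0 : TraceFix ptabs.perm tabs.word 50 1 22222 :=
  traceFix_extendF _ _ letSel perm_eq 50 1 0 22222 22222 rfl (traceFix_zero _ _ 50 1) perm_piece_41_0
theorem perm_g41_upto1 : TraceFix ptabs.perm tabs.word 50 1 31671 :=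
  traceFix_extendF _ _ letSel perm_eq 50 1 22222 9449 31671 rfl perm_g41_upto0 perm_piece_41_1
theorem perm_g41 : ∀ r, 50 ≤ r → r < 50 + 1 → relOk ptabs (tabs.word r) 0 ptabs.n = true :=
  relOk_of_traceFix ptabs tabs.word 50 1 perm_g41_upto1
theorem perm_g42_upto0 : TraceFix ptabs.perm tabs.word 51 1 22222 :=
  traceFix_extendF _ _ letSel perm_eq 51 1 0 22222 22222 rfl (traceFix_zero _ _ 51 1) perm_piece_42_0
theorem perm_g42_upto1 : TraceFix ptabs.perm tabs.word 51 1 31671 :=
  traceFix_extendF _ _ letSel perm_eq 51 1 22222 9449 31671 rfl perm_g42_upto0 perm_piece_42_1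
theorem perm_g42 : ∀ r, 51 ≤ r → r < 51 + 1 → relOk ptabs (tabs.word r) 0 ptabs.n = true :=
  relOk_of_traceFix ptabs tabs.word 51 1 perm_g42_upto1
theorem perm_g43_upto0 : TraceFix ptabs.perm tabs.word 52 1 14814 :=
  traceFix_extendF _ _ letSel perm_eq 52 1 0 14814 14814 rfl (traceFix_zero _ _ 52 1) perm_piece_43_0
theorem perm_g43_upto1 : TraceFix ptabs.perm tabs.word 52 1 29628 :=
  traceFix_extendF _ _ letSel perm_eq 52 1 14814 14814 29628 rfl perm_g43_upto0 perm_piece_43_1
theorem perm_g43_upto2 : TraceFix ptabs.perm tabs.word 52 1 31671 :=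
  traceFix_extendF _ _ letSel perm_eq 52 1 29628 2043 31671 rfl perm_g43_upto1 perm_piece_43_2
theorem perm_g43 : ∀ r, 52 ≤ r → r < 52 + 1 → relOk ptabs (tabs.word r) 0 ptabs.n = true :=
  relOk_of_traceFix ptabs tabs.word 52 1 perm_g43_upto2
theorem perm_g44_upto0 : TraceFix ptabs.perm tabs.word 53 1 31671 :=
  traceFix_extendF _ _ letSel perm_eq 53 1 0 31671 31671 rfl (traceFix_zero _ _ 53 1) perm_piece_44_0
theorem perm_g44 : ∀ r, 53 ≤ r → r < 53 + 1 → relOk ptabs (tabs.word r) 0 ptabs.n = true :=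
  relOk_of_traceFix ptabs tabs.word 53 1 perm_g44_upto0
theorem perm_g45_upto0 : TraceFix ptabs.perm tabs.word 54 1 14814 :=
  traceFix_extendF _ _ letSel perm_eq 54 1 0 14814 14814 rfl (traceFix_zero _ _ 54 1) perm_piece_45_0
theorem perm_g45_upto1 : TraceFix ptabs.perm tabs.word 54 1 29628 :=
  traceFix_extendF _ _ letSel perm_eq 54 1 14814 14814 29628 rfl perm_g45_upto0 perm_piece_45_1
theorem perm_g45_upto2 : TraceFix ptabs.perm tabs.word 54 1 31671 :=
  traceFix_extendF _ _ letSel perm_eq 54 1 29628 2043 31671 rfl perm_g45_upto1 perm_piece_45_2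
theorem perm_g45 : ∀ r, 54 ≤ r → r < 54 + 1 → relOk ptabs (tabs.word r) 0 ptabs.n = true :=
  relOk_of_traceFix ptabs tabs.word 54 1 perm_g45_upto2
theorem perm_g46_upto0 : TraceFix ptabs.perm tabs.word 55 1 22222 :=
  traceFix_extendF _ _ letSel perm_eq 55 1 0 22222 22222 rfl (traceFix_zero _ _ 55 1) perm_piece_46_0
theorem perm_g46_upto1 : TraceFix ptabs.perm tabs.word 55 1 31671 :=
  traceFix_extendF _ _ letSel perm_eq 55 1 22222 9449 31671 rfl perm_g46_upto0 perm_piece_46_1
theorem perm_g46 : ∀ r, 55 ≤ r → r < 55 + 1 → relOk ptabs (tabs.word r) 0 ptabs.n = true :=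
  relOk_of_traceFix ptabs tabs.word 55 1 perm_g46_upto1
theorem perm_g47_upto0 : TraceFix ptabs.perm tabs.word 56 1 22222 :=
  traceFix_extendF _ _ letSel perm_eq 56 1 0 22222 22222 rfl (traceFix_zero _ _ 56 1) perm_piece_47_0
theorem perm_g47_upto1 : TraceFix ptabs.perm tabs.word 56 1 31671 :=
  traceFix_extendF _ _ letSel perm_eq 56 1 22222 9449 31671 rfl perm_g47_upto0 perm_piece_47_1
theorem perm_g47 : ∀ r, 56 ≤ r → r < 56 + 1 → relOk ptabs (tabs.word r) 0 ptabs.n = true :=
  relOk_of_traceFix ptabs tabs.word 56 1 perm_g47_upto1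
theorem perm_g48_upto0 : TraceFix ptabs.perm tabs.word 57 1 22222 :=
  traceFix_extendF _ _ letSel perm_eq 57 1 0 22222 22222 rfl (traceFix_zero _ _ 57 1) perm_piece_48_0
theorem perm_g48_upto1 : TraceFix ptabs.perm tabs.word 57 1 31671 :=
  traceFix_extendF _ _ letSel perm_eq 57 1 22222 9449 31671 rfl perm_g48_upto0 perm_piece_48_1
theorem perm_g48 : ∀ r, 57 ≤ r → r < 57 + 1 → relOk ptabs (tabs.word r) 0 ptabs.n = true :=
  relOk_of_traceFix ptabs tabs.word 57 1 perm_g48_upto1
theorem perm_g49_upto0 : TraceFix ptabs.perm tabs.word 58 1 22222 :=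
  traceFix_extendF _ _ letSel perm_eq 58 1 0 22222 22222 rfl (traceFix_zero _ _ 58 1) perm_piece_49_0
theorem perm_g49_upto1 : TraceFix ptabs.perm tabs.word 58 1 31671 :=
  traceFix_extendF _ _ letSel perm_eq 58 1 22222 9449 31671 rfl perm_g49_upto0 perm_piece_49_1
theorem perm_g49 : ∀ r, 58 ≤ r → r < 58 + 1 → relOk ptabs (tabs.word r) 0 ptabs.n = true :=
  relOk_of_traceFix ptabs tabs.word 58 1 perm_g49_upto1
theorem perm_g50_upto0 : TraceFix ptabs.perm tabs.word 59 1 22222 :=
  traceFix_extendF _ _ letSel perm_eq 59 1 0 22222 22222 rfl (traceFix_zero _ _ 59 1) perm_piece_50_0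
theorem perm_g50_upto1 : TraceFix ptabs.perm tabs.word 59 1 31671 :=
  traceFix_extendF _ _ letSel perm_eq 59 1 22222 9449 31671 rfl perm_g50_upto0 perm_piece_50_1
theorem perm_g50 : ∀ r, 59 ≤ r → r < 59 + 1 → relOk ptabs (tabs.word r) 0 ptabs.n = true :=
  relOk_of_traceFix ptabs tabs.word 59 1 perm_g50_upto1
theorem perm_g51_upto0 : TraceFix ptabs.perm tabs.word 60 1 22222 :=
  traceFix_extendF _ _ letSel perm_eq 60 1 0 22222 22222 rfl (traceFix_zero _ _ 60 1) perm_piece_51_0
theorem perm_g51_upto1 : TraceFix ptabs.perm tabs.word 60 1 31671 :=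
  traceFix_extendF _ _ letSel perm_eq 60 1 22222 9449 31671 rfl perm_g51_upto0 perm_piece_51_1
theorem perm_g51 : ∀ r, 60 ≤ r → r < 60 + 1 → relOk ptabs (tabs.word r) 0 ptabs.n = true :=
  relOk_of_traceFix ptabs tabs.word 60 1 perm_g51_upto1
theorem perm_g52_upto0 : TraceFix ptabs.perm tabs.word 61 1 22222 :=
  traceFix_extendF _ _ letSel perm_eq 61 1 0 22222 22222 rfl (traceFix_zero _ _ 61 1) perm_piece_52_0
theorem perm_g52_upto1 : TraceFix ptabs.perm tabs.word 61 1 31671 :=
  traceFix_extendF _ _ letSel perm_eq 61 1 22222 9449 31671 rfl perm_g52_upto0 perm_piece_52_1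
theorem perm_g52 : ∀ r, 61 ≤ r → r < 61 + 1 → relOk ptabs (tabs.word r) 0 ptabs.n = true :=
  relOk_of_traceFix ptabs tabs.word 61 1 perm_g52_upto1
theorem perm_g53_upto0 : TraceFix ptabs.perm tabs.word 62 1 22222 :=
  traceFix_extendF _ _ letSel perm_eq 62 1 0 22222 22222 rfl (traceFix_zero _ _ 62 1) perm_piece_53_0
theorem perm_g53_upto1 : TraceFix ptabs.perm tabs.word 62 1 31671 :=
  traceFix_extendF _ _ letSel perm_eq 62 1 22222 9449 31671 rfl perm_g53_upto0 perm_piece_53_1
theorem perm_g53 : ∀ r, 62 ≤ r → r < 62 + 1 → relOk ptabs (tabs.word r) 0 ptabs.n = true :=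
  relOk_of_traceFix ptabs tabs.word 62 1 perm_g53_upto1
theorem perm_g54_upto0 : TraceFix ptabs.perm tabs.word 63 1 14814 :=
  traceFix_extendF _ _ letSel perm_eq 63 1 0 14814 14814 rfl (traceFix_zero _ _ 63 1) perm_piece_54_0
theorem perm_g54_upto1 : TraceFix ptabs.perm tabs.word 63 1 29628 :=
  traceFix_extendF _ _ letSel perm_eq 63 1 14814 14814 29628 rfl perm_g54_upto0 perm_piece_54_1
theorem perm_g54_upto2 : TraceFix ptabs.perm tabs.word 63 1 31671 :=
  traceFix_extendF _ _ letSel perm_eq 63 1 29628 2043 31671 rfl perm_g54_upto1 perm_piece_54_2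
theorem perm_g54 : ∀ r, 63 ≤ r → r < 63 + 1 → relOk ptabs (tabs.word r) 0 ptabs.n = true :=
  relOk_of_traceFix ptabs tabs.word 63 1 perm_g54_upto2
theorem perm_g55_upto0 : TraceFix ptabs.perm tabs.word 64 1 31671 :=
  traceFix_extendF _ _ letSel perm_eq 64 1 0 31671 31671 rfl (traceFix_zero _ _ 64 1) perm_piece_55_0
theorem perm_g55 : ∀ r, 64 ≤ r → r < 64 + 1 → relOk ptabs (tabs.word r) 0 ptabs.n = true :=
  relOk_of_traceFix ptabs tabs.word 64 1 perm_g55_upto0
theorem perm_g56_upto0 : TraceFix ptabs.perm tabs.word 65 1 14814 :=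
  traceFix_extendF _ _ letSel perm_eq 65 1 0 14814 14814 rfl (traceFix_zero _ _ 65 1) perm_piece_56_0
theorem perm_g56_upto1 : TraceFix ptabs.perm tabs.word 65 1 29628 :=
  traceFix_extendF _ _ letSel perm_eq 65 1 14814 14814 29628 rfl perm_g56_upto0 perm_piece_56_1
theorem perm_g56_upto2 : TraceFix ptabs.perm tabs.word 65 1 31671 :=
  traceFix_extendF _ _ letSel perm_eq 65 1 29628 2043 31671 rfl perm_g56_upto1 perm_piece_56_2
theorem perm_g56 : ∀ r, 65 ≤ r → r < 65 + 1 → relOk ptabs (tabs.word r) 0 ptabs.n = true :=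
  relOk_of_traceFix ptabs tabs.word 65 1 perm_g56_upto2
theorem perm_g57_upto0 : TraceFix ptabs.perm tabs.word 66 1 22222 :=
  traceFix_extendF _ _ letSel perm_eq 66 1 0 22222 22222 rfl (traceFix_zero _ _ 66 1) perm_piece_57_0
theorem perm_g57_upto1 : TraceFix ptabs.perm tabs.word 66 1 31671 :=
  traceFix_extendF _ _ letSel perm_eq 66 1 22222 9449 31671 rfl perm_g57_upto0 perm_piece_57_1
theorem perm_g57 : ∀ r, 66 ≤ r → r < 66 + 1 → relOk ptabs (tabs.word r) 0 ptabs.n = true :=
  relOk_of_traceFix ptabs tabs.word 66 1 perm_g57_upto1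
theorem perm_g58_upto0 : TraceFix ptabs.perm tabs.word 67 1 22222 :=
  traceFix_extendF _ _ letSel perm_eq 67 1 0 22222 22222 rfl (traceFix_zero _ _ 67 1) perm_piece_58_0
theorem perm_g58_upto1 : TraceFix ptabs.perm tabs.word 67 1 31671 :=
  traceFix_extendF _ _ letSel perm_eq 67 1 22222 9449 31671 rfl perm_g58_upto0 perm_piece_58_1
theorem perm_g58 : ∀ r, 67 ≤ r → r < 67 + 1 → relOk ptabs (tabs.word r) 0 ptabs.n = true :=
  relOk_of_traceFix ptabs tabs.word 67 1 perm_g58_upto1
theorem perm_g59_upto0 : TraceFix ptabs.perm tabs.word 68 1 22222 :=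
  traceFix_extendF _ _ letSel perm_eq 68 1 0 22222 22222 rfl (traceFix_zero _ _ 68 1) perm_piece_59_0
theorem perm_g59_upto1 : TraceFix ptabs.perm tabs.word 68 1 31671 :=
  traceFix_extendF _ _ letSel perm_eq 68 1 22222 9449 31671 rfl perm_g59_upto0 perm_piece_59_1
theorem perm_g59 : ∀ r, 68 ≤ r → r < 68 + 1 → relOk ptabs (tabs.word r) 0 ptabs.n = true :=
  relOk_of_traceFix ptabs tabs.word 68 1 perm_g59_upto1
theorem perm_g60_upto0 : TraceFix ptabs.perm tabs.word 69 1 22222 :=
  traceFix_extendF _ _ letSel perm_eq 69 1 0 22222 22222 rfl (traceFix_zero _ _ 69 1) perm_piece_60_0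
theorem perm_g60_upto1 : TraceFix ptabs.perm tabs.word 69 1 31671 :=
  traceFix_extendF _ _ letSel perm_eq 69 1 22222 9449 31671 rfl perm_g60_upto0 perm_piece_60_1
theorem perm_g60 : ∀ r, 69 ≤ r → r < 69 + 1 → relOk ptabs (tabs.word r) 0 ptabs.n = true :=
  relOk_of_traceFix ptabs tabs.word 69 1 perm_g60_upto1
theorem perm_g61_upto0 : TraceFix ptabs.perm tabs.word 70 1 22222 :=
  traceFix_extendF _ _ letSel perm_eq 70 1 0 22222 22222 rfl (traceFix_zero _ _ 70 1) perm_piece_61_0
theorem perm_g61_upto1 : TraceFix ptabs.perm tabs.word 70 1 31671 :=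
  traceFix_extendF _ _ letSel perm_eq 70 1 22222 9449 31671 rfl perm_g61_upto0 perm_piece_61_1
theorem perm_g61 : ∀ r, 70 ≤ r → r < 70 + 1 → relOk ptabs (tabs.word r) 0 ptabs.n = true :=
  relOk_of_traceFix ptabs tabs.word 70 1 perm_g61_upto1
theorem perm_g62_upto0 : TraceFix ptabs.perm tabs.word 71 1 22222 :=
  traceFix_extendF _ _ letSel perm_eq 71 1 0 22222 22222 rfl (traceFix_zero _ _ 71 1) perm_piece_62_0
theorem perm_g62_upto1 : TraceFix ptabs.perm tabs.word 71 1 31671 :=
  traceFix_extendF _ _ letSel perm_eq 71 1 22222 9449 31671 rfl perm_g62_upto0 perm_piece_62_1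
theorem perm_g62 : ∀ r, 71 ≤ r → r < 71 + 1 → relOk ptabs (tabs.word r) 0 ptabs.n = true :=
  relOk_of_traceFix ptabs tabs.word 71 1 perm_g62_upto1
theorem perm_g63_upto0 : TraceFix ptabs.perm tabs.word 72 1 22222 :=
  traceFix_extendF _ _ letSel perm_eq 72 1 0 22222 22222 rfl (traceFix_zero _ _ 72 1) perm_piece_63_0
theorem perm_g63_upto1 : TraceFix ptabs.perm tabs.word 72 1 31671 :=
  traceFix_extendF _ _ letSel perm_eq 72 1 22222 9449 31671 rfl perm_g63_upto0 perm_piece_63_1
theorem perm_g63 : ∀ r, 72 ≤ r → r < 72 + 1 → relOk ptabs (tabs.word r) 0 ptabs.n = true :=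
  relOk_of_traceFix ptabs tabs.word 72 1 perm_g63_upto1
theorem perm_g64_upto0 : TraceFix ptabs.perm tabs.word 73 1 22222 :=
  traceFix_extendF _ _ letSel perm_eq 73 1 0 22222 22222 rfl (traceFix_zero _ _ 73 1) perm_piece_64_0
theorem perm_g64_upto1 : TraceFix ptabs.perm tabs.word 73 1 31671 :=
  traceFix_extendF _ _ letSel perm_eq 73 1 22222 9449 31671 rfl perm_g64_upto0 perm_piece_64_1
theorem perm_g64 : ∀ r, 73 ≤ r → r < 73 + 1 → relOk ptabs (tabs.word r) 0 ptabs.n = true :=
  relOk_of_traceFix ptabs tabs.word 73 1 perm_g64_upto1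
theorem perm_g65_upto0 : TraceFix ptabs.perm tabs.word 74 1 14814 :=
  traceFix_extendF _ _ letSel perm_eq 74 1 0 14814 14814 rfl (traceFix_zero _ _ 74 1) perm_piece_65_0
theorem perm_g65_upto1 : TraceFix ptabs.perm tabs.word 74 1 29628 :=
  traceFix_extendF _ _ letSel perm_eq 74 1 14814 14814 29628 rfl perm_g65_upto0 perm_piece_65_1
theorem perm_g65_upto2 : TraceFix ptabs.perm tabs.word 74 1 31671 :=
  traceFix_extendF _ _ letSel perm_eq 74 1 29628 2043 31671 rfl perm_g65_upto1 perm_piece_65_2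
theorem perm_g65 : ∀ r, 74 ≤ r → r < 74 + 1 → relOk ptabs (tabs.word r) 0 ptabs.n = true :=
  relOk_of_traceFix ptabs tabs.word 74 1 perm_g65_upto2
theorem perm_g66_upto0 : TraceFix ptabs.perm tabs.word 75 1 31671 :=
  traceFix_extendF _ _ letSel perm_eq 75 1 0 31671 31671 rfl (traceFix_zero _ _ 75 1) perm_piece_66_0
theorem perm_g66 : ∀ r, 75 ≤ r → r < 75 + 1 → relOk ptabs (tabs.word r) 0 ptabs.n = true :=
  relOk_of_traceFix ptabs tabs.word 75 1 perm_g66_upto0
theorem perm_g67_upto0 : TraceFix ptabs.perm tabs.word 76 1 14814 :=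
  traceFix_extendF _ _ letSel perm_eq 76 1 0 14814 14814 rfl (traceFix_zero _ _ 76 1) perm_piece_67_0
theorem perm_g67_upto1 : TraceFix ptabs.perm tabs.word 76 1 29628 :=
  traceFix_extendF _ _ letSel perm_eq 76 1 14814 14814 29628 rfl perm_g67_upto0 perm_piece_67_1
theorem perm_g67_upto2 : TraceFix ptabs.perm tabs.word 76 1 31671 :=
  traceFix_extendF _ _ letSel perm_eq 76 1 29628 2043 31671 rfl perm_g67_upto1 perm_piece_67_2
theorem perm_g67 : ∀ r, 76 ≤ r → r < 76 + 1 → relOk ptabs (tabs.word r) 0 ptabs.n = true :=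
  relOk_of_traceFix ptabs tabs.word 76 1 perm_g67_upto2
theorem perm_g68_upto0 : TraceFix ptabs.perm tabs.word 77 1 22222 :=
  traceFix_extendF _ _ letSel perm_eq 77 1 0 22222 22222 rfl (traceFix_zero _ _ 77 1) perm_piece_68_0
theorem perm_g68_upto1 : TraceFix ptabs.perm tabs.word 77 1 31671 :=
  traceFix_extendF _ _ letSel perm_eq 77 1 22222 9449 31671 rfl perm_g68_upto0 perm_piece_68_1
theorem perm_g68 : ∀ r, 77 ≤ r → r < 77 + 1 → relOk ptabs (tabs.word r) 0 ptabs.n = true :=
  relOk_of_traceFix ptabs tabs.word 77 1 perm_g68_upto1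
theorem perm_g69_upto0 : TraceFix ptabs.perm tabs.word 78 1 22222 :=
  traceFix_extendF _ _ letSel perm_eq 78 1 0 22222 22222 rfl (traceFix_zero _ _ 78 1) perm_piece_69_0
theorem perm_g69_upto1 : TraceFix ptabs.perm tabs.word 78 1 31671 :=
  traceFix_extendF _ _ letSel perm_eq 78 1 22222 9449 31671 rfl perm_g69_upto0 perm_piece_69_1
theorem perm_g69 : ∀ r, 78 ≤ r → r < 78 + 1 → relOk ptabs (tabs.word r) 0 ptabs.n = true :=
  relOk_of_traceFix ptabs tabs.word 78 1 perm_g69_upto1
theorem perm_g70_upto0 : TraceFix ptabs.perm tabs.word 79 1 22222 :=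
  traceFix_extendF _ _ letSel perm_eq 79 1 0 22222 22222 rfl (traceFix_zero _ _ 79 1) perm_piece_70_0
theorem perm_g70_upto1 : TraceFix ptabs.perm tabs.word 79 1 31671 :=
  traceFix_extendF _ _ letSel perm_eq 79 1 22222 9449 31671 rfl perm_g70_upto0 perm_piece_70_1
theorem perm_g70 : ∀ r, 79 ≤ r → r < 79 + 1 → relOk ptabs (tabs.word r) 0 ptabs.n = true :=
  relOk_of_traceFix ptabs tabs.word 79 1 perm_g70_upto1
theorem perm_g71_upto0 : TraceFix ptabs.perm tabs.word 80 1 22222 :=
  traceFix_extendF _ _ letSel perm_eq 80 1 0 22222 22222 rfl (traceFix_zero _ _ 80 1) perm_piece_71_0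
theorem perm_g71_upto1 : TraceFix ptabs.perm tabs.word 80 1 31671 :=
  traceFix_extendF _ _ letSel perm_eq 80 1 22222 9449 31671 rfl perm_g71_upto0 perm_piece_71_1
theorem perm_g71 : ∀ r, 80 ≤ r → r < 80 + 1 → relOk ptabs (tabs.word r) 0 ptabs.n = true :=
  relOk_of_traceFix ptabs tabs.word 80 1 perm_g71_upto1
theorem perm_g72_upto0 : TraceFix ptabs.perm tabs.word 81 1 22222 :=
  traceFix_extendF _ _ letSel perm_eq 81 1 0 22222 22222 rfl (traceFix_zero _ _ 81 1) perm_piece_72_0
theorem perm_g72_upto1 : TraceFix ptabs.perm tabs.word 81 1 31671 :=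
  traceFix_extendF _ _ letSel perm_eq 81 1 22222 9449 31671 rfl perm_g72_upto0 perm_piece_72_1
theorem perm_g72 : ∀ r, 81 ≤ r → r < 81 + 1 → relOk ptabs (tabs.word r) 0 ptabs.n = true :=
  relOk_of_traceFix ptabs tabs.word 81 1 perm_g72_upto1
theorem perm_g73_upto0 : TraceFix ptabs.perm tabs.word 82 1 22222 :=
  traceFix_extendF _ _ letSel perm_eq 82 1 0 22222 22222 rfl (traceFix_zero _ _ 82 1) perm_piece_73_0
theorem perm_g73_upto1 : TraceFix ptabs.perm tabs.word 82 1 31671 :=
  traceFix_extendF _ _ letSel perm_eq 82 1 22222 9449 31671 rfl perm_g73_upto0 perm_piece_73_1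
theorem perm_g73 : ∀ r, 82 ≤ r → r < 82 + 1 → relOk ptabs (tabs.word r) 0 ptabs.n = true :=
  relOk_of_traceFix ptabs tabs.word 82 1 perm_g73_upto1
theorem perm_g74_upto0 : TraceFix ptabs.perm tabs.word 83 1 22222 :=
  traceFix_extendF _ _ letSel perm_eq 83 1 0 22222 22222 rfl (traceFix_zero _ _ 83 1) perm_piece_74_0
theorem perm_g74_upto1 : TraceFix ptabs.perm tabs.word 83 1 31671 :=
  traceFix_extendF _ _ letSel perm_eq 83 1 22222 9449 31671 rfl perm_g74_upto0 perm_piece_74_1
theorem perm_g74 : ∀ r, 83 ≤ r → r < 83 + 1 → relOk ptabs (tabs.word r) 0 ptabs.n = true :=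
  relOk_of_traceFix ptabs tabs.word 83 1 perm_g74_upto1
theorem perm_g75_upto0 : TraceFix ptabs.perm tabs.word 84 1 22222 :=
  traceFix_extendF _ _ letSel perm_eq 84 1 0 22222 22222 rfl (traceFix_zero _ _ 84 1) perm_piece_75_0
theorem perm_g75_upto1 : TraceFix ptabs.perm tabs.word 84 1 31671 :=
  traceFix_extendF _ _ letSel perm_eq 84 1 22222 9449 31671 rfl perm_g75_upto0 perm_piece_75_1
theorem perm_g75 : ∀ r, 84 ≤ r → r < 84 + 1 → relOk ptabs (tabs.word r) 0 ptabs.n = true :=
  relOk_of_traceFix ptabs tabs.word 84 1 perm_g75_upto1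
theorem perm_g76_upto0 : TraceFix ptabs.perm tabs.word 85 1 14814 :=
  traceFix_extendF _ _ letSel perm_eq 85 1 0 14814 14814 rfl (traceFix_zero _ _ 85 1) perm_piece_76_0
theorem perm_g76_upto1 : TraceFix ptabs.perm tabs.word 85 1 29628 :=
  traceFix_extendF _ _ letSel perm_eq 85 1 14814 14814 29628 rfl perm_g76_upto0 perm_piece_76_1
theorem perm_g76_upto2 : TraceFix ptabs.perm tabs.word 85 1 31671 :=
  traceFix_extendF _ _ letSel perm_eq 85 1 29628 2043 31671 rfl perm_g76_upto1 perm_piece_76_2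
theorem perm_g76 : ∀ r, 85 ≤ r → r < 85 + 1 → relOk ptabs (tabs.word r) 0 ptabs.n = true :=
  relOk_of_traceFix ptabs tabs.word 85 1 perm_g76_upto2
theorem perm_g77_upto0 : TraceFix ptabs.perm tabs.word 86 1 31671 :=
  traceFix_extendF _ _ letSel perm_eq 86 1 0 31671 31671 rfl (traceFix_zero _ _ 86 1) perm_piece_77_0
theorem perm_g77 : ∀ r, 86 ≤ r → r < 86 + 1 → relOk ptabs (tabs.word r) 0 ptabs.n = true :=
  relOk_of_traceFix ptabs tabs.word 86 1 perm_g77_upto0
theorem perm_g78_upto0 : TraceFix ptabs.perm tabs.word 87 1 22222 :=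
  traceFix_extendF _ _ letSel perm_eq 87 1 0 22222 22222 rfl (traceFix_zero _ _ 87 1) perm_piece_78_0
theorem perm_g78_upto1 : TraceFix ptabs.perm tabs.word 87 1 31671 :=
  traceFix_extendF _ _ letSel perm_eq 87 1 22222 9449 31671 rfl perm_g78_upto0 perm_piece_78_1
theorem perm_g78 : ∀ r, 87 ≤ r → r < 87 + 1 → relOk ptabs (tabs.word r) 0 ptabs.n = true :=
  relOk_of_traceFix ptabs tabs.word 87 1 perm_g78_upto1
theorem perm_g79_upto0 : TraceFix ptabs.perm tabs.word 88 1 22222 :=
  traceFix_extendF _ _ letSel perm_eq 88 1 0 22222 22222 rfl (traceFix_zero _ _ 88 1) perm_piece_79_0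
theorem perm_g79_upto1 : TraceFix ptabs.perm tabs.word 88 1 31671 :=
  traceFix_extendF _ _ letSel perm_eq 88 1 22222 9449 31671 rfl perm_g79_upto0 perm_piece_79_1
theorem perm_g79 : ∀ r, 88 ≤ r → r < 88 + 1 → relOk ptabs (tabs.word r) 0 ptabs.n = true :=
  relOk_of_traceFix ptabs tabs.word 88 1 perm_g79_upto1
theorem perm_g80_upto0 : TraceFix ptabs.perm tabs.word 89 1 22222 :=
  traceFix_extendF _ _ letSel perm_eq 89 1 0 22222 22222 rfl (traceFix_zero _ _ 89 1) perm_piece_80_0
theorem perm_g80_upto1 : TraceFix ptabs.perm tabs.word 89 1 31671 :=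
  traceFix_extendF _ _ letSel perm_eq 89 1 22222 9449 31671 rfl perm_g80_upto0 perm_piece_80_1
theorem perm_g80 : ∀ r, 89 ≤ r → r < 89 + 1 → relOk ptabs (tabs.word r) 0 ptabs.n = true :=
  relOk_of_traceFix ptabs tabs.word 89 1 perm_g80_upto1
theorem perm_g81_upto0 : TraceFix ptabs.perm tabs.word 90 1 22222 :=
  traceFix_extendF _ _ letSel perm_eq 90 1 0 22222 22222 rfl (traceFix_zero _ _ 90 1) perm_piece_81_0
theorem perm_g81_upto1 : TraceFix ptabs.perm tabs.word 90 1 31671 :=
  traceFix_extendF _ _ letSel perm_eq 90 1 22222 9449 31671 rfl perm_g81_upto0 perm_piece_81_1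
theorem perm_g81 : ∀ r, 90 ≤ r → r < 90 + 1 → relOk ptabs (tabs.word r) 0 ptabs.n = true :=
  relOk_of_traceFix ptabs tabs.word 90 1 perm_g81_upto1
theorem perm_g82_upto0 : TraceFix ptabs.perm tabs.word 91 1 22222 :=
  traceFix_extendF _ _ letSel perm_eq 91 1 0 22222 22222 rfl (traceFix_zero _ _ 91 1) perm_piece_82_0
theorem perm_g82_upto1 : TraceFix ptabs.perm tabs.word 91 1 31671 :=
  traceFix_extendF _ _ letSel perm_eq 91 1 22222 9449 31671 rfl perm_g82_upto0 perm_piece_82_1
theorem perm_g82 : ∀ r, 91 ≤ r → r < 91 + 1 → relOk ptabs (tabs.word r) 0 ptabs.n = true :=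
  relOk_of_traceFix ptabs tabs.word 91 1 perm_g82_upto1
theorem perm_g83_upto0 : TraceFix ptabs.perm tabs.word 92 1 14814 :=
  traceFix_extendF _ _ letSel perm_eq 92 1 0 14814 14814 rfl (traceFix_zero _ _ 92 1) perm_piece_83_0
theorem perm_g83_upto1 : TraceFix ptabs.perm tabs.word 92 1 29628 :=
  traceFix_extendF _ _ letSel perm_eq 92 1 14814 14814 29628 rfl perm_g83_upto0 perm_piece_83_1
theorem perm_g83_upto2 : TraceFix ptabs.perm tabs.word 92 1 31671 :=
  traceFix_extendF _ _ letSel perm_eq 92 1 29628 2043 31671 rfl perm_g83_upto1 perm_piece_83_2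
theorem perm_g83 : ∀ r, 92 ≤ r → r < 92 + 1 → relOk ptabs (tabs.word r) 0 ptabs.n = true :=
  relOk_of_traceFix ptabs tabs.word 92 1 perm_g83_upto2
theorem perm_g84_upto0 : TraceFix ptabs.perm tabs.word 93 1 22222 :=
  traceFix_extendF _ _ letSel perm_eq 93 1 0 22222 22222 rfl (traceFix_zero _ _ 93 1) perm_piece_84_0
theorem perm_g84_upto1 : TraceFix ptabs.perm tabs.word 93 1 31671 :=
  traceFix_extendF _ _ letSel perm_eq 93 1 22222 9449 31671 rfl perm_g84_upto0 perm_piece_84_1
theorem perm_g84 : ∀ r, 93 ≤ r → r < 93 + 1 → relOk ptabs (tabs.word r) 0 ptabs.n = true :=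
  relOk_of_traceFix ptabs tabs.word 93 1 perm_g84_upto1
theorem perm_g85_upto0 : TraceFix ptabs.perm tabs.word 94 1 22222 :=
  traceFix_extendF _ _ letSel perm_eq 94 1 0 22222 22222 rfl (traceFix_zero _ _ 94 1) perm_piece_85_0
theorem perm_g85_upto1 : TraceFix ptabs.perm tabs.word 94 1 31671 :=
  traceFix_extendF _ _ letSel perm_eq 94 1 22222 9449 31671 rfl perm_g85_upto0 perm_piece_85_1
theorem perm_g85 : ∀ r, 94 ≤ r → r < 94 + 1 → relOk ptabs (tabs.word r) 0 ptabs.n = true :=
  relOk_of_traceFix ptabs tabs.word 94 1 perm_g85_upto1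
theorem perm_g86_upto0 : TraceFix ptabs.perm tabs.word 95 1 22222 :=
  traceFix_extendF _ _ letSel perm_eq 95 1 0 22222 22222 rfl (traceFix_zero _ _ 95 1) perm_piece_86_0
theorem perm_g86_upto1 : TraceFix ptabs.perm tabs.word 95 1 31671 :=
  traceFix_extendF _ _ letSel perm_eq 95 1 22222 9449 31671 rfl perm_g86_upto0 perm_piece_86_1
theorem perm_g86 : ∀ r, 95 ≤ r → r < 95 + 1 → relOk ptabs (tabs.word r) 0 ptabs.n = true :=
  relOk_of_traceFix ptabs tabs.word 95 1 perm_g86_upto1
theorem perm_g87_upto0 : TraceFix ptabs.perm tabs.word 96 1 22222 :=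
  traceFix_extendF _ _ letSel perm_eq 96 1 0 22222 22222 rfl (traceFix_zero _ _ 96 1) perm_piece_87_0
theorem perm_g87_upto1 : TraceFix ptabs.perm tabs.word 96 1 31671 :=
  traceFix_extendF _ _ letSel perm_eq 96 1 22222 9449 31671 rfl perm_g87_upto0 perm_piece_87_1
theorem perm_g87 : ∀ r, 96 ≤ r → r < 96 + 1 → relOk ptabs (tabs.word r) 0 ptabs.n = true :=
  relOk_of_traceFix ptabs tabs.word 96 1 perm_g87_upto1
theorem perm_g88_upto0 : TraceFix ptabs.perm tabs.word 97 1 31671 :=
  traceFix_extendF _ _ letSel perm_eq 97 1 0 31671 31671 rfl (traceFix_zero _ _ 97 1) perm_piece_88_0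
theorem perm_g88 : ∀ r, 97 ≤ r → r < 97 + 1 → relOk ptabs (tabs.word r) 0 ptabs.n = true :=
  relOk_of_traceFix ptabs tabs.word 97 1 perm_g88_upto0
theorem perm_g89_upto0 : TraceFix ptabs.perm tabs.word 98 1 14814 :=
  traceFix_extendF _ _ letSel perm_eq 98 1 0 14814 14814 rfl (traceFix_zero _ _ 98 1) perm_piece_89_0
theorem perm_g89_upto1 : TraceFix ptabs.perm tabs.word 98 1 29628 :=
  traceFix_extendF _ _ letSel perm_eq 98 1 14814 14814 29628 rfl perm_g89_upto0 perm_piece_89_1
theorem perm_g89_upto2 : TraceFix ptabs.perm tabs.word 98 1 31671 :=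
  traceFix_extendF _ _ letSel perm_eq 98 1 29628 2043 31671 rfl perm_g89_upto1 perm_piece_89_2
theorem perm_g89 : ∀ r, 98 ≤ r → r < 98 + 1 → relOk ptabs (tabs.word r) 0 ptabs.n = true :=
  relOk_of_traceFix ptabs tabs.word 98 1 perm_g89_upto2
theorem perm_g90_upto0 : TraceFix ptabs.perm tabs.word 99 1 22222 :=
  traceFix_extendF _ _ letSel perm_eq 99 1 0 22222 22222 rfl (traceFix_zero _ _ 99 1) perm_piece_90_0
theorem perm_g90_upto1 : TraceFix ptabs.perm tabs.word 99 1 31671 :=
  traceFix_extendF _ _ letSel perm_eq 99 1 22222 9449 31671 rfl perm_g90_upto0 perm_piece_90_1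
theorem perm_g90 : ∀ r, 99 ≤ r → r < 99 + 1 → relOk ptabs (tabs.word r) 0 ptabs.n = true :=
  relOk_of_traceFix ptabs tabs.word 99 1 perm_g90_upto1
theorem perm_g91_upto0 : TraceFix ptabs.perm tabs.word 100 1 22222 :=
  traceFix_extendF _ _ letSel perm_eq 100 1 0 22222 22222 rfl (traceFix_zero _ _ 100 1) perm_piece_91_0
theorem perm_g91_upto1 : TraceFix ptabs.perm tabs.word 100 1 31671 :=
  traceFix_extendF _ _ letSel perm_eq 100 1 22222 9449 31671 rfl perm_g91_upto0 perm_piece_91_1
theorem perm_g91 : ∀ r, 100 ≤ r → r < 100 + 1 → relOk ptabs (tabs.word r) 0 ptabs.n = true :=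
  relOk_of_traceFix ptabs tabs.word 100 1 perm_g91_upto1
theorem perm_g92_upto0 : TraceFix ptabs.perm tabs.word 101 1 22222 :=
  traceFix_extendF _ _ letSel perm_eq 101 1 0 22222 22222 rfl (traceFix_zero _ _ 101 1) perm_piece_92_0
theorem perm_g92_upto1 : TraceFix ptabs.perm tabs.word 101 1 31671 :=
  traceFix_extendF _ _ letSel perm_eq 101 1 22222 9449 31671 rfl perm_g92_upto0 perm_piece_92_1
theorem perm_g92 : ∀ r, 101 ≤ r → r < 101 + 1 → relOk ptabs (tabs.word r) 0 ptabs.n = true :=
  relOk_of_traceFix ptabs tabs.word 101 1 perm_g92_upto1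
theorem perm_g93_upto0 : TraceFix ptabs.perm tabs.word 102 1 22222 :=
  traceFix_extendF _ _ letSel perm_eq 102 1 0 22222 22222 rfl (traceFix_zero _ _ 102 1) perm_piece_93_0
theorem perm_g93_upto1 : TraceFix ptabs.perm tabs.word 102 1 31671 :=
  traceFix_extendF _ _ letSel perm_eq 102 1 22222 9449 31671 rfl perm_g93_upto0 perm_piece_93_1
theorem perm_g93 : ∀ r, 102 ≤ r → r < 102 + 1 → relOk ptabs (tabs.word r) 0 ptabs.n = true :=
  relOk_of_traceFix ptabs tabs.word 102 1 perm_g93_upto1
theorem perm_g94_upto0 : TraceFix ptabs.perm tabs.word 103 1 22222 :=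
  traceFix_extendF _ _ letSel perm_eq 103 1 0 22222 22222 rfl (traceFix_zero _ _ 103 1) perm_piece_94_0
theorem perm_g94_upto1 : TraceFix ptabs.perm tabs.word 103 1 31671 :=
  traceFix_extendF _ _ letSel perm_eq 103 1 22222 9449 31671 rfl perm_g94_upto0 perm_piece_94_1
theorem perm_g94 : ∀ r, 103 ≤ r → r < 103 + 1 → relOk ptabs (tabs.word r) 0 ptabs.n = true :=
  relOk_of_traceFix ptabs tabs.word 103 1 perm_g94_upto1
theorem perm_g95_upto0 : TraceFix ptabs.perm tabs.word 104 1 22222 :=
  traceFix_extendF _ _ letSel perm_eq 104 1 0 22222 22222 rfl (traceFix_zero _ _ 104 1) perm_piece_95_0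
theorem perm_g95_upto1 : TraceFix ptabs.perm tabs.word 104 1 31671 :=
  traceFix_extendF _ _ letSel perm_eq 104 1 22222 9449 31671 rfl perm_g95_upto0 perm_piece_95_1
theorem perm_g95 : ∀ r, 104 ≤ r → r < 104 + 1 → relOk ptabs (tabs.word r) 0 ptabs.n = true :=
  relOk_of_traceFix ptabs tabs.word 104 1 perm_g95_upto1
theorem perm_g96_upto0 : TraceFix ptabs.perm tabs.word 105 1 22222 :=
  traceFix_extendF _ _ letSel perm_eq 105 1 0 22222 22222 rfl (traceFix_zero _ _ 105 1) perm_piece_96_0
theorem perm_g96_upto1 : TraceFix ptabs.perm tabs.word 105 1 31671 :=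
  traceFix_extendF _ _ letSel perm_eq 105 1 22222 9449 31671 rfl perm_g96_upto0 perm_piece_96_1
theorem perm_g96 : ∀ r, 105 ≤ r → r < 105 + 1 → relOk ptabs (tabs.word r) 0 ptabs.n = true :=
  relOk_of_traceFix ptabs tabs.word 105 1 perm_g96_upto1
theorem perm_g97_upto0 : TraceFix ptabs.perm tabs.word 106 1 22222 :=
  traceFix_extendF _ _ letSel perm_eq 106 1 0 22222 22222 rfl (traceFix_zero _ _ 106 1) perm_piece_97_0
theorem perm_g97_upto1 : TraceFix ptabs.perm tabs.word 106 1 31671 :=
  traceFix_extendF _ _ letSel perm_eq 106 1 22222 9449 31671 rfl perm_g97_upto0 perm_piece_97_1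
theorem perm_g97 : ∀ r, 106 ≤ r → r < 106 + 1 → relOk ptabs (tabs.word r) 0 ptabs.n = true :=
  relOk_of_traceFix ptabs tabs.word 106 1 perm_g97_upto1
theorem perm_g98_upto0 : TraceFix ptabs.perm tabs.word 107 1 14814 :=
  traceFix_extendF _ _ letSel perm_eq 107 1 0 14814 14814 rfl (traceFix_zero _ _ 107 1) perm_piece_98_0
theorem perm_g98_upto1 : TraceFix ptabs.perm tabs.word 107 1 29628 :=
  traceFix_extendF _ _ letSel perm_eq 107 1 14814 14814 29628 rfl perm_g98_upto0 perm_piece_98_1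
theorem perm_g98_upto2 : TraceFix ptabs.perm tabs.word 107 1 31671 :=
  traceFix_extendF _ _ letSel perm_eq 107 1 29628 2043 31671 rfl perm_g98_upto1 perm_piece_98_2
theorem perm_g98 : ∀ r, 107 ≤ r → r < 107 + 1 → relOk ptabs (tabs.word r) 0 ptabs.n = true :=
  relOk_of_traceFix ptabs tabs.word 107 1 perm_g98_upto2
theorem perm_g99_upto0 : TraceFix ptabs.perm tabs.word 108 1 31671 :=
  traceFix_extendF _ _ letSel perm_eq 108 1 0 31671 31671 rfl (traceFix_zero _ _ 108 1) perm_piece_99_0
theorem perm_g99 : ∀ r, 108 ≤ r → r < 108 + 1 → relOk ptabs (tabs.word r) 0 ptabs.n = true :=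
  relOk_of_traceFix ptabs tabs.word 108 1 perm_g99_upto0
theorem perm_g100_upto0 : TraceFix ptabs.perm tabs.word 109 1 987 :=
  traceFix_extendF _ _ letSel perm_eq 109 1 0 987 987 rfl (traceFix_zero _ _ 109 1) perm_piece_100_0
theorem perm_g100_upto1 : TraceFix ptabs.perm tabs.word 109 1 1974 :=
  traceFix_extendF _ _ letSel perm_eq 109 1 987 987 1974 rfl perm_g100_upto0 perm_piece_100_1
theorem perm_g100_upto2 : TraceFix ptabs.perm tabs.word 109 1 2961 :=
  traceFix_extendF _ _ letSel perm_eq 109 1 1974 987 2961 rfl perm_g100_upto1 perm_piece_100_2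
theorem perm_g100_upto3 : TraceFix ptabs.perm tabs.word 109 1 3948 :=
  traceFix_extendF _ _ letSel perm_eq 109 1 2961 987 3948 rfl perm_g100_upto2 perm_piece_100_3
theorem perm_g100_upto4 : TraceFix ptabs.perm tabs.word 109 1 4935 :=
  traceFix_extendF _ _ letSel perm_eq 109 1 3948 987 4935 rfl perm_g100_upto3 perm_piece_100_4
theorem perm_g100_upto5 : TraceFix ptabs.perm tabs.word 109 1 5922 :=
  traceFix_extendF _ _ letSel perm_eq 109 1 4935 987 5922 rfl perm_g100_upto4 perm_piece_100_5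
theorem perm_g100_upto6 : TraceFix ptabs.perm tabs.word 109 1 6909 :=
  traceFix_extendF _ _ letSel perm_eq 109 1 5922 987 6909 rfl perm_g100_upto5 perm_piece_100_6
theorem perm_g100_upto7 : TraceFix ptabs.perm tabs.word 109 1 7896 :=
  traceFix_extendF _ _ letSel perm_eq 109 1 6909 987 7896 rfl perm_g100_upto6 perm_piece_100_7
theorem perm_g100_upto8 : TraceFix ptabs.perm tabs.word 109 1 8883 :=
  traceFix_extendF _ _ letSel perm_eq 109 1 7896 987 8883 rfl perm_g100_upto7 perm_piece_100_8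
theorem perm_g100_upto9 : TraceFix ptabs.perm tabs.word 109 1 9870 :=
  traceFix_extendF _ _ letSel perm_eq 109 1 8883 987 9870 rfl perm_g100_upto8 perm_piece_100_9
theorem perm_g100_upto10 : TraceFix ptabs.perm tabs.word 109 1 10857 :=
  traceFix_extendF _ _ letSel perm_eq 109 1 9870 987 10857 rfl perm_g100_upto9 perm_piece_100_10
theorem perm_g100_upto11 : TraceFix ptabs.perm tabs.word 109 1 11844 :=
  traceFix_extendF _ _ letSel perm_eq 109 1 10857 987 11844 rfl perm_g100_upto10 perm_piece_100_11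
theorem perm_g100_upto12 : TraceFix ptabs.perm tabs.word 109 1 12831 :=
  traceFix_extendF _ _ letSel perm_eq 109 1 11844 987 12831 rfl perm_g100_upto11 perm_piece_100_12
theorem perm_g100_upto13 : TraceFix ptabs.perm tabs.word 109 1 13818 :=
  traceFix_extendF _ _ letSel perm_eq 109 1 12831 987 13818 rfl perm_g100_upto12 perm_piece_100_13
theorem perm_g100_upto14 : TraceFix ptabs.perm tabs.word 109 1 14805 :=
  traceFix_extendF _ _ letSel perm_eq 109 1 13818 987 14805 rfl perm_g100_upto13 perm_piece_100_14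
theorem perm_g100_upto15 : TraceFix ptabs.perm tabs.word 109 1 15792 :=
  traceFix_extendF _ _ letSel perm_eq 109 1 14805 987 15792 rfl perm_g100_upto14 perm_piece_100_15
theorem perm_g100_upto16 : TraceFix ptabs.perm tabs.word 109 1 16779 :=
  traceFix_extendF _ _ letSel perm_eq 109 1 15792 987 16779 rfl perm_g100_upto15 perm_piece_100_16
theorem perm_g100_upto17 : TraceFix ptabs.perm tabs.word 109 1 17766 :=
  traceFix_extendF _ _ letSel perm_eq 109 1 16779 987 17766 rfl perm_g100_upto16 perm_piece_100_17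
theorem perm_g100_upto18 : TraceFix ptabs.perm tabs.word 109 1 18753 :=
  traceFix_extendF _ _ letSel perm_eq 109 1 17766 987 18753 rfl perm_g100_upto17 perm_piece_100_18
theorem perm_g100_upto19 : TraceFix ptabs.perm tabs.word 109 1 19740 :=
  traceFix_extendF _ _ letSel perm_eq 109 1 18753 987 19740 rfl perm_g100_upto18 perm_piece_100_19
theorem perm_g100_upto20 : TraceFix ptabs.perm tabs.word 109 1 20727 :=
  traceFix_extendF _ _ letSel perm_eq 109 1 19740 987 20727 rfl perm_g100_upto19 perm_piece_100_20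
theorem perm_g100_upto21 : TraceFix ptabs.perm tabs.word 109 1 21714 :=
  traceFix_extendF _ _ letSel perm_eq 109 1 20727 987 21714 rfl perm_g100_upto20 perm_piece_100_21
theorem perm_g100_upto22 : TraceFix ptabs.perm tabs.word 109 1 22701 :=
  traceFix_extendF _ _ letSel perm_eq 109 1 21714 987 22701 rfl perm_g100_upto21 perm_piece_100_22
theorem perm_g100_upto23 : TraceFix ptabs.perm tabs.word 109 1 23688 :=
  traceFix_extendF _ _ letSel perm_eq 109 1 22701 987 23688 rfl perm_g100_upto22 perm_piece_100_23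
theorem perm_g100_upto24 : TraceFix ptabs.perm tabs.word 109 1 24675 :=
  traceFix_extendF _ _ letSel perm_eq 109 1 23688 987 24675 rfl perm_g100_upto23 perm_piece_100_24
theorem perm_g100_upto25 : TraceFix ptabs.perm tabs.word 109 1 25662 :=
  traceFix_extendF _ _ letSel perm_eq 109 1 24675 987 25662 rfl perm_g100_upto24 perm_piece_100_25
theorem perm_g100_upto26 : TraceFix ptabs.perm tabs.word 109 1 26649 :=
  traceFix_extendF _ _ letSel perm_eq 109 1 25662 987 26649 rfl perm_g100_upto25 perm_piece_100_26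
theorem perm_g100_upto27 : TraceFix ptabs.perm tabs.word 109 1 27636 :=
  traceFix_extendF _ _ letSel perm_eq 109 1 26649 987 27636 rfl perm_g100_upto26 perm_piece_100_27
theorem perm_g100_upto28 : TraceFix ptabs.perm tabs.word 109 1 28623 :=
  traceFix_extendF _ _ letSel perm_eq 109 1 27636 987 28623 rfl perm_g100_upto27 perm_piece_100_28
theorem perm_g100_upto29 : TraceFix ptabs.perm tabs.word 109 1 29610 :=
  traceFix_extendF _ _ letSel perm_eq 109 1 28623 987 29610 rfl perm_g100_upto28 perm_piece_100_29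
theorem perm_g100_upto30 : TraceFix ptabs.perm tabs.word 109 1 30597 :=
  traceFix_extendF _ _ letSel perm_eq 109 1 29610 987 30597 rfl perm_g100_upto29 perm_piece_100_30
theorem perm_g100_upto31 : TraceFix ptabs.perm tabs.word 109 1 31584 :=
  traceFix_extendF _ _ letSel perm_eq 109 1 30597 987 31584 rfl perm_g100_upto30 perm_piece_100_31
theorem perm_g100_upto32 : TraceFix ptabs.perm tabs.word 109 1 31671 :=
  traceFix_extendF _ _ letSel perm_eq 109 1 31584 87 31671 rfl perm_g100_upto31 perm_piece_100_32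
theorem perm_g100 : ∀ r, 109 ≤ r → r < 109 + 1 → relOk ptabs (tabs.word r) 0 ptabs.n = true :=
  relOk_of_traceFix ptabs tabs.word 109 1 perm_g100_upto32
theorem perm_g101_upto0 : TraceFix ptabs.perm tabs.word 110 1 1410 :=
  traceFix_extendF _ _ letSel perm_eq 110 1 0 1410 1410 rfl (traceFix_zero _ _ 110 1) perm_piece_101_0
theorem perm_g101_upto1 : TraceFix ptabs.perm tabs.word 110 1 2820 :=
  traceFix_extendF _ _ letSel perm_eq 110 1 1410 1410 2820 rfl perm_g101_upto0 perm_piece_101_1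
theorem perm_g101_upto2 : TraceFix ptabs.perm tabs.word 110 1 4230 :=
  traceFix_extendF _ _ letSel perm_eq 110 1 2820 1410 4230 rfl perm_g101_upto1 perm_piece_101_2
theorem perm_g101_upto3 : TraceFix ptabs.perm tabs.word 110 1 5640 :=
  traceFix_extendF _ _ letSel perm_eq 110 1 4230 1410 5640 rfl perm_g101_upto2 perm_piece_101_3
theorem perm_g101_upto4 : TraceFix ptabs.perm tabs.word 110 1 7050 :=
  traceFix_extendF _ _ letSel perm_eq 110 1 5640 1410 7050 rfl perm_g101_upto3 perm_piece_101_4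
theorem perm_g101_upto5 : TraceFix ptabs.perm tabs.word 110 1 8460 :=
  traceFix_extendF _ _ letSel perm_eq 110 1 7050 1410 8460 rfl perm_g101_upto4 perm_piece_101_5
theorem perm_g101_upto6 : TraceFix ptabs.perm tabs.word 110 1 9870 :=
  traceFix_extendF _ _ letSel perm_eq 110 1 8460 1410 9870 rfl perm_g101_upto5 perm_piece_101_6
theorem perm_g101_upto7 : TraceFix ptabs.perm tabs.word 110 1 11280 :=
  traceFix_extendF _ _ letSel perm_eq 110 1 9870 1410 11280 rfl perm_g101_upto6 perm_piece_101_7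
theorem perm_g101_upto8 : TraceFix ptabs.perm tabs.word 110 1 12690 :=
  traceFix_extendF _ _ letSel perm_eq 110 1 11280 1410 12690 rfl perm_g101_upto7 perm_piece_101_8
theorem perm_g101_upto9 : TraceFix ptabs.perm tabs.word 110 1 14100 :=
  traceFix_extendF _ _ letSel perm_eq 110 1 12690 1410 14100 rfl perm_g101_upto8 perm_piece_101_9
theorem perm_g101_upto10 : TraceFix ptabs.perm tabs.word 110 1 15510 :=
  traceFix_extendF _ _ letSel perm_eq 110 1 14100 1410 15510 rfl perm_g101_upto9 perm_piece_101_10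
theorem perm_g101_upto11 : TraceFix ptabs.perm tabs.word 110 1 16920 :=
  traceFix_extendF _ _ letSel perm_eq 110 1 15510 1410 16920 rfl perm_g101_upto10 perm_piece_101_11
theorem perm_g101_upto12 : TraceFix ptabs.perm tabs.word 110 1 18330 :=
  traceFix_extendF _ _ letSel perm_eq 110 1 16920 1410 18330 rfl perm_g101_upto11 perm_piece_101_12
theorem perm_g101_upto13 : TraceFix ptabs.perm tabs.word 110 1 19740 :=
  traceFix_extendF _ _ letSel perm_eq 110 1 18330 1410 19740 rfl perm_g101_upto12 perm_piece_101_13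
theorem perm_g101_upto14 : TraceFix ptabs.perm tabs.word 110 1 21150 :=
  traceFix_extendF _ _ letSel perm_eq 110 1 19740 1410 21150 rfl perm_g101_upto13 perm_piece_101_14
theorem perm_g101_upto15 : TraceFix ptabs.perm tabs.word 110 1 22560 :=
  traceFix_extendF _ _ letSel perm_eq 110 1 21150 1410 22560 rfl perm_g101_upto14 perm_piece_101_15
theorem perm_g101_upto16 : TraceFix ptabs.perm tabs.word 110 1 23970 :=
  traceFix_extendF _ _ letSel perm_eq 110 1 22560 1410 23970 rfl perm_g101_upto15 perm_piece_101_16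
theorem perm_g101_upto17 : TraceFix ptabs.perm tabs.word 110 1 25380 :=
  traceFix_extendF _ _ letSel perm_eq 110 1 23970 1410 25380 rfl perm_g101_upto16 perm_piece_101_17
theorem perm_g101_upto18 : TraceFix ptabs.perm tabs.word 110 1 26790 :=
  traceFix_extendF _ _ letSel perm_eq 110 1 25380 1410 26790 rfl perm_g101_upto17 perm_piece_101_18
theorem perm_g101_upto19 : TraceFix ptabs.perm tabs.word 110 1 28200 :=
  traceFix_extendF _ _ letSel perm_eq 110 1 26790 1410 28200 rfl perm_g101_upto18 perm_piece_101_19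
theorem perm_g101_upto20 : TraceFix ptabs.perm tabs.word 110 1 29610 :=
  traceFix_extendF _ _ letSel perm_eq 110 1 28200 1410 29610 rfl perm_g101_upto19 perm_piece_101_20
theorem perm_g101_upto21 : TraceFix ptabs.perm tabs.word 110 1 31020 :=
  traceFix_extendF _ _ letSel perm_eq 110 1 29610 1410 31020 rfl perm_g101_upto20 perm_piece_101_21
theorem perm_g101_upto22 : TraceFix ptabs.perm tabs.word 110 1 31671 :=
  traceFix_extendF _ _ letSel perm_eq 110 1 31020 651 31671 rfl perm_g101_upto21 perm_piece_101_22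
theorem perm_g101 : ∀ r, 110 ≤ r → r < 110 + 1 → relOk ptabs (tabs.word r) 0 ptabs.n = true :=
  relOk_of_traceFix ptabs tabs.word 110 1 perm_g101_upto22
theorem perm_all : ∀ r, 9 ≤ r → r < 111 → relOk ptabs (tabs.word r) 0 ptabs.n = true := by
  intro r h1 h2
  by_cases c0 : r < 10
  · exact perm_g0 r (by omega) (by omega)
  by_cases c1 : r < 11
  · exact perm_g1 r (by omega) (by omega)
  by_cases c2 : r < 12
  · exact perm_g2 r (by omega) (by omega)
  by_cases c3 : r < 13
  · exact perm_g3 r (by omega) (by omega)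
  by_cases c4 : r < 14
  · exact perm_g4 r (by omega) (by omega)
  by_cases c5 : r < 15
  · exact perm_g5 r (by omega) (by omega)
  by_cases c6 : r < 16
  · exact perm_g6 r (by omega) (by omega)
  by_cases c7 : r < 17
  · exact perm_g7 r (by omega) (by omega)
  by_cases c8 : r < 18
  · exact perm_g8 r (by omega) (by omega)
  by_cases c9 : r < 19
  · exact perm_g9 r (by omega) (by omega)
  by_cases c10 : r < 20
  · exact perm_g10 r (by omega) (by omega)
  by_cases c11 : r < 21
  · exact perm_g11 r (by omega) (by omega)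
  by_cases c12 : r < 22
  · exact perm_g12 r (by omega) (by omega)
  by_cases c13 : r < 23
  · exact perm_g13 r (by omega) (by omega)
  by_cases c14 : r < 24
  · exact perm_g14 r (by omega) (by omega)
  by_cases c15 : r < 25
  · exact perm_g15 r (by omega) (by omega)
  by_cases c16 : r < 26
  · exact perm_g16 r (by omega) (by omega)
  by_cases c17 : r < 27
  · exact perm_g17 r (by omega) (by omega)
  by_cases c18 : r < 28
  · exact perm_g18 r (by omega) (by omega)
  by_cases c19 : r < 29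
  · exact perm_g19 r (by omega) (by omega)
  by_cases c20 : r < 30
  · exact perm_g20 r (by omega) (by omega)
  by_cases c21 : r < 31
  · exact perm_g21 r (by omega) (by omega)
  by_cases c22 : r < 32
  · exact perm_g22 r (by omega) (by omega)
  by_cases c23 : r < 33
  · exact perm_g23 r (by omega) (by omega)
  by_cases c24 : r < 34
  · exact perm_g24 r (by omega) (by omega)
  by_cases c25 : r < 35
  · exact perm_g25 r (by omega) (by omega)
  by_cases c26 : r < 36
  · exact perm_g26 r (by omega) (by omega)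
  by_cases c27 : r < 37
  · exact perm_g27 r (by omega) (by omega)
  by_cases c28 : r < 38
  · exact perm_g28 r (by omega) (by omega)
  by_cases c29 : r < 39
  · exact perm_g29 r (by omega) (by omega)
  by_cases c30 : r < 40
  · exact perm_g30 r (by omega) (by omega)
  by_cases c31 : r < 41
  · exact perm_g31 r (by omega) (by omega)
  by_cases c32 : r < 42
  · exact perm_g32 r (by omega) (by omega)
  by_cases c33 : r < 43
  · exact perm_g33 r (by omega) (by omega)
  by_cases c34 : r < 44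
  · exact perm_g34 r (by omega) (by omega)
  by_cases c35 : r < 45
  · exact perm_g35 r (by omega) (by omega)
  by_cases c36 : r < 46
  · exact perm_g36 r (by omega) (by omega)
  by_cases c37 : r < 47
  · exact perm_g37 r (by omega) (by omega)
  by_cases c38 : r < 48
  · exact perm_g38 r (by omega) (by omega)
  by_cases c39 : r < 49
  · exact perm_g39 r (by omega) (by omega)
  by_cases c40 : r < 50
  · exact perm_g40 r (by omega) (by omega)
  by_cases c41 : r < 51
  · exact perm_g41 r (by omega) (by omega)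
  by_cases c42 : r < 52
  · exact perm_g42 r (by omega) (by omega)
  by_cases c43 : r < 53
  · exact perm_g43 r (by omega) (by omega)
  by_cases c44 : r < 54
  · exact perm_g44 r (by omega) (by omega)
  by_cases c45 : r < 55
  · exact perm_g45 r (by omega) (by omega)
  by_cases c46 : r < 56
  · exact perm_g46 r (by omega) (by omega)
  by_cases c47 : r < 57
  · exact perm_g47 r (by omega) (by omega)
  by_cases c48 : r < 58
  · exact perm_g48 r (by omega) (by omega)
  by_cases c49 : r < 59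
  · exact perm_g49 r (by omega) (by omega)
  by_cases c50 : r < 60
  · exact perm_g50 r (by omega) (by omega)
  by_cases c51 : r < 61
  · exact perm_g51 r (by omega) (by omega)
  by_cases c52 : r < 62
  · exact perm_g52 r (by omega) (by omega)
  by_cases c53 : r < 63
  · exact perm_g53 r (by omega) (by omega)
  by_cases c54 : r < 64
  · exact perm_g54 r (by omega) (by omega)
  by_cases c55 : r < 65
  · exact perm_g55 r (by omega) (by omega)
  by_cases c56 : r < 66
  · exact perm_g56 r (by omega) (by omega)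
  by_cases c57 : r < 67
  · exact perm_g57 r (by omega) (by omega)
  by_cases c58 : r < 68
  · exact perm_g58 r (by omega) (by omega)
  by_cases c59 : r < 69
  · exact perm_g59 r (by omega) (by omega)
  by_cases c60 : r < 70
  · exact perm_g60 r (by omega) (by omega)
  by_cases c61 : r < 71
  · exact perm_g61 r (by omega) (by omega)
  by_cases c62 : r < 72
  · exact perm_g62 r (by omega) (by omega)
  by_cases c63 : r < 73
  · exact perm_g63 r (by omega) (by omega)
  by_cases c64 : r < 74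
  · exact perm_g64 r (by omega) (by omega)
  by_cases c65 : r < 75
  · exact perm_g65 r (by omega) (by omega)
  by_cases c66 : r < 76
  · exact perm_g66 r (by omega) (by omega)
  by_cases c67 : r < 77
  · exact perm_g67 r (by omega) (by omega)
  by_cases c68 : r < 78
  · exact perm_g68 r (by omega) (by omega)
  by_cases c69 : r < 79
  · exact perm_g69 r (by omega) (by omega)
  by_cases c70 : r < 80
  · exact perm_g70 r (by omega) (by omega)
  by_cases c71 : r < 81
  · exact perm_g71 r (by omega) (by omega)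
  by_cases c72 : r < 82
  · exact perm_g72 r (by omega) (by omega)
  by_cases c73 : r < 83
  · exact perm_g73 r (by omega) (by omega)
  by_cases c74 : r < 84
  · exact perm_g74 r (by omega) (by omega)
  by_cases c75 : r < 85
  · exact perm_g75 r (by omega) (by omega)
  by_cases c76 : r < 86
  · exact perm_g76 r (by omega) (by omega)
  by_cases c77 : r < 87
  · exact perm_g77 r (by omega) (by omega)
  by_cases c78 : r < 88
  · exact perm_g78 r (by omega) (by omega)
  by_cases c79 : r < 89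
  · exact perm_g79 r (by omega) (by omega)
  by_cases c80 : r < 90
  · exact perm_g80 r (by omega) (by omega)
  by_cases c81 : r < 91
  · exact perm_g81 r (by omega) (by omega)
  by_cases c82 : r < 92
  · exact perm_g82 r (by omega) (by omega)
  by_cases c83 : r < 93
  · exact perm_g83 r (by omega) (by omega)
  by_cases c84 : r < 94
  · exact perm_g84 r (by omega) (by omega)
  by_cases c85 : r < 95
  · exact perm_g85 r (by omega) (by omega)
  by_cases c86 : r < 96
  · exact perm_g86 r (by omega) (by omega)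
  by_cases c87 : r < 97
  · exact perm_g87 r (by omega) (by omega)
  by_cases c88 : r < 98
  · exact perm_g88 r (by omega) (by omega)
  by_cases c89 : r < 99
  · exact perm_g89 r (by omega) (by omega)
  by_cases c90 : r < 100
  · exact perm_g90 r (by omega) (by omega)
  by_cases c91 : r < 101
  · exact perm_g91 r (by omega) (by omega)
  by_cases c92 : r < 102
  · exact perm_g92 r (by omega) (by omega)
  by_cases c93 : r < 103
  · exact perm_g93 r (by omega) (by omega)
  by_cases c94 : r < 104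
  · exact perm_g94 r (by omega) (by omega)
  by_cases c95 : r < 105
  · exact perm_g95 r (by omega) (by omega)
  by_cases c96 : r < 106
  · exact perm_g96 r (by omega) (by omega)
  by_cases c97 : r < 107
  · exact perm_g97 r (by omega) (by omega)
  by_cases c98 : r < 108
  · exact perm_g98 r (by omega) (by omega)
  by_cases c99 : r < 109
  · exact perm_g99 r (by omega) (by omega)
  by_cases c100 : r < 110
  · exact perm_g100 r (by omega) (by omega)
  by_cases c101 : r < 111
  · exact perm_g101 r (by omega) (by omega)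
  omega
theorem subfix_all : ∀ r, r < 9 → relOk ptabs (tabs.word r) 0 1 = true := allLt_sound _ _ subfix_ok
end Cfsg.Agent.Helper28.Fi23a
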