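import Cfsg.Agent.Helper28.Fi23a.Data
set_option autoImplicit false
set_option maxRecDepth 1000000
namespace Cfsg.Agent.Helper28.Fi23a
open Cfsg.Agent.Helper28
theorem perm_piece_100_25 : permPieceF tabs.word letSel 109 1 24675 987 = true := by decide +kernel
theorem perm_piece_100_26 : permPieceF tabs.word letSel 109 1 25662 987 = true := by decide +kernel
theorem perm_piece_100_27 : permPieceF tabs.word letSel 109 1 26649 987 = true := by decide +kernel
theorem perm_piece_100_28 : permPieceF tabs.word letSel 109 1 27636 987 = true := by decide +kernel
theorem perm_piece_100_29 : permPieceF tabs.word letSel 109 1 28623 987 = true := by decide +kernel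
theorem perm_piece_100_30 : permPieceF tabs.word letSel 109 1 29610 987 = true := by decide +kernel
theorem perm_piece_100_31 : permPieceF tabs.word letSel 109 1 30597 987 = true := by decide +kernel
theorem perm_piece_100_32 : permPieceF tabs.word letSel 109 1 31584 87 = true := by decide +kernel
theorem perm_piece_101_0 : permPieceF tabs.word letSel 110 1 0 1410 = true := by decide +kernel
end Cfsg.Agent.Helper28.Fi23a
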